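import Cfsg.Agent.H39.HN.Mem.Data

/-!
Steps of a derivation (generated data).
-/

set_option autoImplicit false
set_option maxRecDepth 100000
set_option linter.all false
set_option Elab.async false

namespace H39
namespace HN
namespace Mem

open H93.CosetI

noncomputable section

def st4 : List Step := [(0,[],[]),(0,[],[]),(0,[],[]),(8,[31,29,1533,1606,1539,1960,1962,1964,1966,1968,1970,1972,1974,1976,1978,1980,1982,1984,1986,1988,1990,1992,1994,1996,1998,2000,2002,2004],[1795,1949,1947,1959,1957,1955,1953]),(0,[],[]),(0,[],[]),(0,[],[]),(0,[],[]),(0,[],[]),(0,[],[]),(0,[],[]),(0,[],[]),(0,[],[]),(0,[],[]),(7,[1576,1574,1532,262,195,192,146,148,150,152,154,606,2008,2010,2012,2014,2016,2018,2020,2022,2024,2026],[265]),(0,[],[]),(0,[],[]),(0,[],[]),(0,[],[]),(4,[33,1720,1722,1724,2030,2032,2034,2036],[265,2029,2027]),(0,[],[]),(0,[],[]),(0,[],[]),(0,[],[]),(0,[],[]),(0,[],[]),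(6,[1576,1614,1674,1676,1678,2040,2042,2044,2046,2048,2050],[265,2029,2027,2025]),(0,[],[]),(0,[],[]),(0,[],[]),(0,[],[]),(0,[],[]),(0,[],[]),(0,[],[]),(0,[],[]),(0,[],[]),(0,[],[]),(0,[],[]),(0,[],[]),(0,[],[]),(0,[],[]),(5,[1576,1574,1532,262,195,96,98,1150,1018,1450,1452,2068,2070,2072,2074,2076,2078,2080],[265,2029]),(3,[36,1616,1618],[2029,2083]),(5,[40,42,44,46,48,386,388,390,392,394,396,398],[39,37,2029,2027,2025,2023,2021,2019,2017]),(1,[2087],[]),(1,[2089,2015],[]),(1,[630,2090],[]),(1,[2089,2016],[]),(1,[2093],[]),(1,[2097,2013],[]),(3,[428,1534,1916,1918,1920],[1661]),(1,[2100],[]),(1,[2103,1921],[]),(2,[2002],[]),(2,[],[2053]),(2,[2026],[]),(2,[2036],[]),(2,[2048],[]),(2,[2064],[]),(2,[2072],[]),(2,[2080],[]),(0,[],[]),(0,[],[]),(0,[],[]),(0,[],[]),(0,[],[]),(0,[],[]),(0,[],[]),(0,[],[]),(0,[],[]),(0,[],[]),(0,[],[]),(0,[],[]),(0,[],[]),(0,[],[]),(0,[],[]),(0,[],[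]),(0,[],[]),(0,[],[]),(0,[],[]),(0,[],[]),(0,[],[]),(0,[],[]),(0,[],[]),(5,[36,1616,1618,1620,2122,2124,2152,2154,2156,2158,2160,2162,2164,2166],[35,33,31,1347,1711,1793]),(0,[],[]),(0,[],[]),(0,[],[]),(0,[],[]),(0,[],[]),(0,[],[]),(0,[],[]),(0,[],[]),(0,[],[]),(0,[],[]),(0,[],[]),(0,[],[]),(0,[],[]),(0,[],[]),(0,[],[]),(0,[],[]),(7,[1616,1618,2084,2120,2170,2172,2174,2176,2178,2180,2182,2184,2186,2188,2190,2192,2194,2196,2198,2200],[267,1072,1393]),(0,[],[]),(4,[37,264,1576,1614,1571,2204],[267,1072,1393,1330,1435]),(0,[],[]),(0,[],[]),(0,[],[]),(0,[],[]),(0,[],[]),(0,[],[]),(0,[],[]),(0,[],[]),(6,[1616,1662,1664,2208,2210,2212,2214,2216,2218,2220,2222],[267,1072,1393,2203]),(0,[],[]),(0,[],[]),(0,[],[]),(0,[],[]),(0,[],[]),(0,[],[]),(0,[],[]),(0,[],[]),(0,[],[]),(0,[],[]),(0,[],[]),(0,[],[]),(0,[],[]),(0,[],[]),(0,[],[]),(0,[],[]),(0,[],[]),(0,[],[]),(0,[],[]),(0,[],[]),(0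,[],[]),(0,[],[]),(0,[],[]),(5,[1616,1618,2084,2120,2170,2226,2258,2260,2262,2264,2266,2268,2270],[267,1072,939,315,313,165,163]),(4,[1072,1328,1330,1332,2207],[39,37,35,1576,1573,1571]),(5,[317,938,1073,266,1616,1618,1620,2122,2124,2126,2128],[269,479,585,287,572,685,375,757,755,753]),(1,[2276],[]),(1,[2279,2129],[]),(1,[2279,2130],[]),(1,[750,2282],[]),(1,[2285],[]),(1,[2287,2132],[]),(8,[177,21,19,68,70,1292,1357,1204,1033,1031,1202,1497,1495,1493,1200,1450,1452,2068,2070,2072],[167,165,431,1534,1609,1538,1607,1575,1577,265,2029,2083,2081,2170,2226,2228]),(1,[2291],[]),(1,[2293,2230],[]),(1,[2119,2294],[]),(1,[2293,2229],[]),(1,[2297],[]),(1,[2301,2232],[]),(1,[2070,2302],[]),(1,[2305],[]),(1,[2307,2234],[]),(1,[2068,2308],[]),(1,[2311],[]),(1,[2313,2236],[]),(1,[1597,2314],[]),(1,[2317],[]),(1,[2319,2238],[]),(1,[1450,2320],[]),(1,[2323],[]),(1,[2325,2240],[]),(1,[1018,23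26],[]),(1,[2329],[]),(1,[2331,2242],[]),(1,[1150,2332],[]),(1,[2335],[]),(1,[2337,2244],[]),(1,[281,2338],[]),(1,[2341],[]),(1,[2343,2246],[]),(1,[513,2344],[]),(1,[2347],[]),(1,[2349,2248],[]),(1,[891,2350],[]),(1,[2353],[]),(1,[2355,2250],[]),(1,[724,2356],[]),(1,[2359],[]),(1,[2361,2252],[]),(1,[722,2362],[]),(1,[2365],[]),(1,[2367,2254],[]),(1,[1551,2368],[]),(1,[2371],[]),(1,[2373,2256],[]),(2,[],[2273]),(2,[],[2280]),(3,[2122,2124,2126],[1622,1624]),(2,[2134],[]),(2,[2142],[]),(2,[2172],[]),(2,[2180],[]),(2,[2192],[]),(2,[2196],[]),(2,[],[2225]),(2,[2258],[]),(2,[2266],[]),(0,[],[]),(0,[],[]),(0,[],[]),(0,[],[]),(0,[],[]),(0,[],[]),(0,[],[]),(0,[],[]),(0,[],[]),(0,[],[]),(0,[],[]),(0,[],[]),(0,[],[]),(0,[],[]),(0,[],[]),(0,[],[]),(0,[],[]),(0,[],[]),(0,[],[]),(0,[],[]),(8,[1072,939,316,46,48,386,563,284,2400,2402,2404,2406,2408,2410,2412,2414,2416,2418,2420,2422,2424,2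426,2428,2430,2432,2434,2436,2438],[39,37,35,1576,1573,1571,2275]),(0,[],[]),(0,[],[]),(0,[],[]),(0,[],[]),(0,[],[]),(0,[],[]),(0,[],[]),(0,[],[]),(0,[],[]),(0,[],[]),(7,[42,44,317,410,992,1040,1042,1044,1046,1048,1050,2442,2444,2446,2448,2450,2452,2454,2456,2458,2460],[361,359]),(0,[],[]),(0,[],[]),(0,[],[]),(0,[],[]),(4,[41,266,1616,1662,2464,2466,2468,2470],[361,359,2463]),(0,[],[]),(0,[],[]),(0,[],[]),(0,[],[]),(0,[],[]),(0,[],[]),(0,[],[]),(0,[],[]),(0,[],[]),(0,[],[]),(6,[42,2474,2476,2478,2480,2482,2484,2486,2488,2490,2492],[361,359,2463,2461]),(0,[],[]),(0,[],[])]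

theorem ok4 : data.stepsOK st4 1000 = true := by decide +kernel

def st5 : List Step := [(0,[],[]),(0,[],[]),(0,[],[]),(0,[],[]),(0,[],[]),(0,[],[]),(0,[],[]),(0,[],[]),(0,[],[]),(8,[41,1072,939,410,992,1093,160,2376,2271,2269,2398,2265,2263,2261,2396,2299,2118,2496,2498,2500,2502,2504,2506,2508,2510,2512,2514,2516],[361,359,2463,2473,2471,2469,2467]),(0,[],[]),(0,[],[]),(0,[],[]),(0,[],[]),(0,[],[]),(0,[],[]),(0,[],[]),(0,[],[]),(0,[],[]),(5,[42,44,317,410,992,1093,296,2520,2522,2524,2526,2528,2530,2532,2534,2536],[361,359,357,355]),(2,[2474],[]),(3,[],[106,108,110,2400,2402]),(5,[134,934,936,502,20,176,276,312,992,1093,296,2520,2522],[311,309,307,868,330,332,334,617]),(1,[2544],[]),(1,[2547,2524],[]),(1,[339,2548],[]),(1,[2547,2523],[]),(1,[2551],[]),(1,[2555,2526],[]),(1,[341,2556],[]),(1,[2559],[]),(1,[2561,2528],[]),(1,[343,2562],[]),(1,[2565],[]),(1,[2567,2530],[]),(1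,[345,2568],[]),(1,[2571],[]),(1,[2573,2532],[]),(1,[347,2574],[]),(1,[2577],[]),(1,[2579,2534],[]),(2,[],[2463]),(2,[2442],[]),(3,[2068,2070,2496,2498],[1454,1456]),(1,[2586],[]),(1,[2589,2500],[]),(1,[1459,2590],[]),(1,[2589,2499],[]),(1,[2593],[]),(1,[2597,2502],[]),(1,[1461,2598],[]),(1,[2601],[]),(1,[2603,2504],[]),(1,[1463,2604],[]),(1,[2607],[]),(1,[2609,2506],[]),(1,[1465,2610],[]),(1,[2613],[]),(1,[2615,2508],[]),(1,[1467,2616],[]),(1,[2619],[]),(1,[2621,2510],[]),(1,[1469,2622],[]),(1,[2625],[]),(1,[2627,2512],[]),(3,[1664,1666,1668],[2464,2519,2517]),(1,[2631],[]),(1,[2633,2515],[]),(1,[1914,2634],[]),(1,[2633,2516],[]),(1,[2637],[]),(1,[2641,2629],[]),(2,[2404],[]),(2,[2412],[]),(2,[2416],[]),(2,[2450],[]),(2,[2454],[]),(2,[],[2495]),(2,[2478],[]),(0,[],[]),(0,[],[]),(0,[],[]),(0,[],[]),(0,[],[]),(0,[],[]),(0,[],[]),(0,[],[]),(0,[],[]),(0,[],[]),(0,[],[]),(0,[],[]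),(0,[],[]),(0,[],[]),(0,[],[]),(7,[44,317,938,1328,1330,1332,1334,2658,2660,2662,2664,2666,2668,2670,2672,2674,2676,2678,2680,2682,2684,2686],[2541]),(0,[],[]),(0,[],[]),(0,[],[]),(0,[],[]),(4,[43,574,1082,948,2690,2692,2694,2696],[2541,2689,2687]),(0,[],[]),(0,[],[]),(6,[44,46,48,50,52,602,656,686,688,2700,2702],[2541,2689,2687,2685]),(0,[],[]),(0,[],[]),(0,[],[]),(0,[],[]),(0,[],[]),(0,[],[]),(0,[],[]),(0,[],[]),(0,[],[]),(0,[],[]),(0,[],[]),(0,[],[]),(0,[],[]),(0,[],[]),(0,[],[]),(0,[],[]),(0,[],[]),(0,[],[]),(0,[],[]),(0,[],[]),(0,[],[]),(0,[],[]),(0,[],[]),(8,[43,41,1072,1328,1330,2706,2708,2710,2712,2714,2716,2718,2720,2722,2724,2726,2728,2730,2732,2734,2736,2738,2740,2742,2744,2746,2748,2750],[2541,2689,2687,2699,2697,2695,2693]),(0,[],[]),(0,[],[]),(0,[],[]),(0,[],[]),(0,[],[]),(0,[],[]),(0,[],[]),(0,[],[]),(0,[],[]),(0,[],[]),(0,[],[]),(0,[],[]),(5,[44,317,938,1328,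1330,2706,2754,2756,2758,2760,2762,2764,2766,2768,2770,2772,2774,2776],[2541,2689]),(0,[],[]),(0,[],[]),(7,[317,938,1073,266,1616,1662,1664,1666,1668,1670,1672,1426,2780,2782],[269,479,1371,1258,1260,1262,1411,1413,1425]),(0,[],[]),(0,[],[]),(0,[],[]),(0,[],[]),(4,[45,2474,2476,2478,2786,2788,2790,2792],[269,479,1371]),(0,[],[]),(0,[],[]),(0,[],[]),(0,[],[]),(0,[],[]),(0,[],[]),(6,[317,410,992,1040,1042,2796,2798,2800,2802,2804,2806],[269,479,1371,1258]),(0,[],[]),(0,[],[]),(0,[],[]),(0,[],[]),(0,[],[]),(0,[],[]),(0,[],[]),(0,[],[]),(0,[],[]),(0,[],[]),(0,[],[]),(0,[],[]),(0,[],[]),(0,[],[]),(0,[],[]),(0,[],[]),(0,[],[]),(0,[],[]),(8,[45,43,41,266,1616,1618,2084,2120,2079,2077,2810,2812,2814,2816,2818,2820,2822,2824,2826,2828,2830,2832,2834,2836,2838,2840,2842,2844],[269,479,1371,2795,2793,2791,2789]),(2,[2700],[]),(3,[950,952,954],[2690,2753,2751]),(1,[2851],[]),(1,[2853,274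9],[]),(1,[1172,2854],[]),(1,[2853,2750],[]),(1,[2857],[]),(1,[2861,2747],[]),(2,[2796],[]),(2,[],[2809]),(3,[1330,2706,2708],[2203,2201,2199]),(1,[2868],[]),(1,[2871,2710],[]),(1,[2393,2872],[]),(1,[2871,2709],[]),(1,[2875],[]),(1,[2879,2712],[]),(1,[2194,2880],[]),(1,[2883],[]),(1,[2885,2714],[]),(3,[1334,2658,2660],[2207,2441,2439]),(1,[2888],[]),(1,[2891,2661],[]),(2,[2728],[]),(2,[2734],[]),(2,[2742],[]),(2,[2788],[]),(2,[2792],[]),(2,[2818],[]),(2,[2842],[]),(0,[],[]),(0,[],[]),(0,[],[]),(0,[],[]),(0,[],[]),(0,[],[]),(0,[],[]),(0,[],[]),(0,[],[]),(0,[],[]),(0,[],[]),(0,[],[]),(0,[],[]),(7,[48,386,563,284,111,2908,2910,2912,2914,2916,2918,2920,2922,2924,2926,2928,2930,2932],[47,45,2541,2689,2779]),(0,[],[]),(0,[],[]),(0,[],[]),(0,[],[]),(0,[],[]),(0,[],[]),(0,[],[]),(0,[],[]),(0,[],[]),(0,[],[]),(0,[],[]),(0,[],[]),(8,[479,585,115,284,111,109,107,282,1579,1451,1020,1022,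1024,1026,1028,1030,2936,2938,2940,2942,2944,2946,2948,2950,2952,2954,2956,2958],[47,45,2541,2476,2657,2786,2901]),(0,[],[]),(0,[],[]),(0,[],[]),(0,[],[]),(0,[],[]),(0,[],[]),(0,[],[]),(0,[],[]),(5,[48,386,563,284,111,109,2962,2964,2966,2968,2970,2972,2974,2976],[47,45,43,361,359,357]),(0,[],[]),(0,[],[]),(8,[49,479,585,116,118,120,810,876,755,753,2378,2127,2125,2123,1912,2084,2120,2170,2226,2258,2980,2982],[271,241,257,207,5,86,167,165,163,2273,2271,2269,2267]),(0,[],[]),(0,[],[]),(5,[386,563,114,116,118,120,122,2986,2988],[271,241,9,247,58,237,238,137,135,133,131]),(2,[2962],[]),(2,[2908],[]),(2,[2936],[]),(2,[2932],[])]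

theorem ok5 : data.stepsOK st5 1250 = true := by decide +kernel

def st6 : List Step := [(2,[2942],[]),(2,[2950],[]),(2,[2956],[]),(2,[2970],[]),(2,[2976],[]),(0,[],[]),(0,[],[]),(0,[],[]),(0,[],[]),(0,[],[]),(0,[],[]),(0,[],[]),(0,[],[]),(0,[],[]),(0,[],[]),(0,[],[]),(0,[],[]),(7,[54,207,6,56,412,414,416,3010,3012,3014,3016,3018,3020,3022,3024,3026,3028,3030,3032],[385,383,779,777]),(0,[],[]),(0,[],[]),(0,[],[]),(0,[],[]),(4,[53,270,386,388,3036,3038,3040,3042],[385,383,779]),(0,[],[]),(0,[],[]),(0,[],[]),(0,[],[]),(0,[],[]),(0,[],[]),(0,[],[]),(0,[],[]),(0,[],[]),(0,[],[]),(0,[],[]),(8,[53,241,9,56,412,800,712,292,135,133,290,2991,2989,2987,288,810,876,3046,3048,3050,3052,3054,3056,3058,3060,3062,3064,3066],[385,383,779,3045,3043,3041,3039]),(0,[],[]),(0,[],[]),(0,[],[]),(0,[],[]),(0,[],[]),(0,[],[]),(0,[],[]),(0,[],[]),(0,[],[]),(0,[],[]),(5,[54,207,6,56,412,800,900,3070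,3072,3074,3076,3078,3080,3082,3084,3086,3088],[385,383,381]),(7,[2986,2988,2990,130,132,604,852,716,872,610,843,290,129,127,125,288,810,876,3046,3048],[123,121,871,2288]),(1,[3092],[]),(1,[3095,3050],[]),(1,[2135,3096],[]),(1,[3095,3049],[]),(1,[3099],[]),(1,[3103,3052],[]),(1,[2137,3104],[]),(1,[3107],[]),(1,[3109,3054],[]),(1,[2139,3110],[]),(1,[3113],[]),(1,[3115,3056],[]),(1,[2141,3116],[]),(1,[3119],[]),(1,[3121,3058],[]),(1,[2143,3122],[]),(1,[3125],[]),(1,[3127,3060],[]),(1,[2145,3128],[]),(1,[3131],[]),(1,[3133,3062],[]),(2,[],[3091]),(3,[390,392,394],[3036,3069,3067]),(1,[3139],[]),(1,[3141,3065],[]),(1,[628,3142],[]),(1,[3141,3066],[]),(1,[3145],[]),(1,[3149,3135],[]),(3,[416,3010,3012],[758,799,797]),(1,[3152],[]),(1,[3155,3014],[]),(1,[913,3156],[]),(1,[3155,3013],[]),(1,[3159],[]),(1,[3163,3016],[]),(2,[3018],[]),(2,[3026],[]),(2,[3030],[]),(2,[3038],[]),(2,[304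2],[]),(2,[3076],[]),(2,[3082],[]),(0,[],[]),(0,[],[]),(0,[],[]),(0,[],[]),(0,[],[]),(0,[],[]),(0,[],[]),(0,[],[]),(0,[],[]),(0,[],[]),(0,[],[]),(0,[],[]),(8,[58,237,238,292,934,936,300,302,873,717,3180,3182,3184,3186,3188,3190,3192,3194,3196,3198,3200,3202],[57,7,5,3,1,2,201,206,55,385,383,381,3091]),(0,[],[]),(0,[],[]),(0,[],[]),(0,[],[]),(0,[],[]),(0,[],[]),(0,[],[]),(0,[],[]),(0,[],[]),(0,[],[]),(7,[59,412,800,900,3070,3206,3208,3210,3212,3214,3216,3218,3220,3222,3224],[254,237,77,75,747,745,743,741]),(0,[],[]),(0,[],[]),(0,[],[]),(0,[],[]),(0,[],[]),(4,[237,274,3228,3230,3232,3234,3236],[254,237,77,3228]),(0,[],[]),(0,[],[]),(0,[],[]),(0,[],[]),(0,[],[]),(0,[],[]),(0,[],[]),(0,[],[]),(0,[],[]),(0,[],[]),(0,[],[]),(0,[],[]),(0,[],[]),(0,[],[]),(0,[],[]),(0,[],[]),(0,[],[]),(0,[],[]),(0,[],[]),(0,[],[]),(8,[237,238,713,900,3070,3072,3074,3076,3240,3242,3244,3246,3248,3250,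3252,3254,3256,3258,3260,3262,3264,3266,3268,3270,3272,3274,3276,3278],[254,237,77,3228,3239,3237,3235]),(0,[],[]),(0,[],[]),(0,[],[]),(0,[],[]),(5,[59,412,800,900,3070,3072,3282,3284,3286,3288],[254,237,238,137,135,133,842,611,873,717]),(3,[74,3228],[747,745,1291]),(7,[3228,3292,1290,906],[275,238,137,135,133,842,611,873,903,720,722,724,891,513,281,100,102,1579,1597,1454]),(1,[3295],[]),(1,[3297,1455],[]),(1,[3297,1456],[]),(1,[740,3300],[]),(1,[3303],[]),(1,[3305,1458],[]),(1,[3305,1599],[]),(1,[3226,3308],[]),(1,[3305,2594],[]),(1,[738,3312],[]),(1,[3310],[]),(1,[3317,3226],[]),(1,[3317,3225],[]),(1,[1461,3320],[]),(1,[3315],[]),(1,[3325,2497],[]),(1,[3323],[]),(1,[3329,3223],[]),(1,[1463,3330],[]),(1,[3333],[]),(1,[3335,3221],[]),(1,[1465,3336],[]),(1,[3339],[]),(1,[3341,3219],[]),(1,[1600,3342],[]),(1,[3345],[]),(1,[3347,3217],[]),(8,[657,383,381,3136,3205,3203,3201],[88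7,888,761,759,415,413,57,7,206,11,9,7,5,3,16,18,503,937,935,293,713,711,3070,3072,3074,3177,3078,3080,3179]),(1,[3350],[]),(1,[3353,3199],[]),(1,[3082,3354],[]),(1,[3353,3200],[]),(1,[3357],[]),(1,[3361,3197],[]),(1,[3080,3362],[]),(1,[3365],[]),(1,[3367,3195],[]),(1,[3078,3368],[]),(1,[3371],[]),(1,[3373,3193],[]),(1,[3076,3374],[]),(1,[3377],[]),(1,[3379,3191],[]),(1,[3074,3380],[]),(1,[3383],[]),(1,[3385,3189],[]),(2,[3180],[3291]),(1,[3389],[]),(1,[3391,3290],[]),(1,[3391,3289],[]),(1,[3183,3394],[]),(1,[3397],[]),(1,[3399,3287],[]),(1,[3185,3400],[]),(1,[3403],[]),(1,[3405,3285],[]),(1,[3187,3406],[]),(1,[3409],[]),(1,[3411,3283],[]),(3,[1310],[1673,2642,1469,3348]),(2,[3206],[]),(2,[3214],[]),(2,[3230],[3239]),(1,[3421],[]),(1,[3423,3238],[]),(1,[3423,3237],[]),(1,[3233,3426],[]),(1,[3429],[]),(1,[3431,3235],[]),(2,[3244],[]),(2,[3252],[]),(2,[3262],[]),(2,[3270],[]),(2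,[3276],[]),(0,[],[]),(0,[],[]),(0,[],[]),(0,[],[]),(0,[],[]),(0,[],[]),(0,[],[]),(0,[],[]),(0,[],[]),(0,[],[]),(0,[],[]),(0,[],[]),(0,[],[]),(0,[],[]),(0,[],[]),(0,[],[]),(0,[],[]),(0,[],[]),(8,[971,1039,1037,1204,1360,1412,1266,1268,3444,3446,3448,3450,3452,3454,3456,3458,3460,3462,3464,3466,3468,3470,3472,3474,3476,3478],[69,17,1,16,259,971,969,967,965]),(0,[],[]),(0,[],[]),(0,[],[]),(0,[],[]),(0,[],[]),(0,[],[]),(0,[],[]),(0,[],[]),(0,[],[])]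

theorem ok6 : data.stepsOK st6 1500 = true := by decide +kernel

def st7 : List Step := [(0,[],[]),(0,[],[]),(0,[],[]),(0,[],[]),(0,[],[]),(0,[],[]),(0,[],[]),(7,[1292,1357,1036,1206,3482,3484,3486,3488,3490,3492,3494,3496,3498,3500,3502,3504,3506,3508,3510,3512],[273,747,1375]),(0,[],[]),(0,[],[]),(0,[],[]),(0,[],[]),(0,[],[]),(0,[],[]),(0,[],[]),(0,[],[]),(0,[],[]),(0,[],[]),(6,[1292,3516,3518,3520,3522,3524,3526,3528,3530,3532,3534],[273,747,1375,3515]),(0,[],[]),(0,[],[]),(0,[],[]),(0,[],[]),(0,[],[]),(0,[],[]),(0,[],[]),(0,[],[]),(0,[],[]),(0,[],[]),(0,[],[]),(0,[],[]),(0,[],[]),(0,[],[]),(0,[],[]),(0,[],[]),(8,[71,971,1039,1206,3482,3538,3540,3542,3544,3546,3548,3550,3552,3554,3556,3558,3560,3562,3564,3566,3568],[273,747,1375,1236,1403,1215,1213,935,135,311,309,307,868,980]),(0,[],[]),(0,[],[]),(0,[],[]),(5,[1292,1357,1036,1206,3482,3538,3572,3574,3576],[273,747,745,7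43,741,739,3326,2119,2298,2227,2387]),(4,[75,272,1292,3516],[275,238,137,934,1381,1386,1255]),(4,[238,292,934,1212,1386,1404,3581],[77,75,73,1292]),(5,[1549,1547,1545,278,96,512,890,725,723,721,902,872,304,866,980,3571,3569],[295,1909,339,337]),(1,[3584],[]),(1,[3587,3567],[]),(1,[616,3588],[]),(1,[3587,3568],[]),(1,[3591],[]),(1,[3595,3565],[]),(1,[2553,3596],[]),(1,[3599],[]),(1,[3601,3563],[]),(1,[2520,3602],[]),(1,[3605],[]),(1,[3607,3561],[]),(1,[296,3608],[]),(1,[3611],[]),(1,[3613,3559],[]),(1,[1093,3614],[]),(1,[3617],[]),(1,[3619,3557],[]),(1,[1198,3620],[]),(1,[3623],[]),(1,[3625,3555],[]),(1,[1043,3626],[]),(1,[3629],[]),(1,[3631,3553],[]),(1,[1045,3632],[]),(1,[3635],[]),(1,[3637,3551],[]),(1,[1047,3638],[]),(1,[3641],[]),(1,[3643,3549],[]),(1,[1208,3644],[]),(1,[3647],[]),(1,[3649,3547],[]),(1,[1051,3650],[]),(1,[3653],[]),(1,[3655,3545],[]),(1,[1053,3656],[]),(1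,[3659],[]),(1,[3661,3543],[]),(1,[1210,3662],[]),(1,[3665],[]),(1,[3667,3541],[]),(2,[],[3481]),(3,[2174,2176,2178],[3579,3577,3575]),(1,[3673],[]),(1,[3675,3573],[]),(1,[2388,3676],[]),(1,[3675,3574],[]),(1,[3679],[]),(1,[3683,3669],[]),(1,[2183,3684],[]),(1,[3683,3539],[]),(1,[3686],[]),(1,[3691,2184],[]),(1,[1211,3692],[]),(1,[3691,2183],[]),(1,[3695],[]),(1,[3699,2186],[]),(3,[2188,2190],[3701,1053,1051]),(2,[3466],[]),(2,[3474],[]),(2,[3484],[]),(2,[3492],[]),(2,[3508],[]),(2,[],[3537]),(2,[3520],[]),(2,[3532],[]),(0,[],[]),(0,[],[]),(0,[],[]),(0,[],[]),(0,[],[]),(0,[],[]),(0,[],[]),(7,[74,3228,3292,1422,3720,3722,3724,3726,3728,3730,3732],[73,71,69,17,2,86,167,165,431,429,1661,2104]),(0,[],[]),(0,[],[]),(0,[],[]),(0,[],[]),(0,[],[]),(0,[],[]),(0,[],[]),(0,[],[]),(0,[],[]),(0,[],[]),(0,[],[]),(0,[],[]),(0,[],[]),(0,[],[]),(0,[],[]),(0,[],[]),(0,[],[]),(0,[],[]),(0,[],[]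),(0,[],[]),(0,[],[]),(8,[747,745,1291,1422,3720,3736,3738,3740,3742,3744,3746,3748,3750,3752,3754,3756,3758,3760,3762,3764,3766,3768,3770,3772,3774,3776],[73,71,69,18,503,937,1381,1386,1229]),(0,[],[]),(0,[],[]),(0,[],[]),(0,[],[]),(5,[74,3228,3292,1422,3720,3736,3780,3782,3784,3786],[73,71,971,969,967,965,963,961,959,2862]),(0,[],[]),(0,[],[]),(0,[],[]),(0,[],[]),(0,[],[]),(6,[3228,3230,3790,3792,3794,3796,3798],[275,238,137,135,311,309,875,782]),(0,[],[]),(0,[],[]),(0,[],[]),(0,[],[]),(0,[],[]),(0,[],[]),(0,[],[]),(0,[],[]),(8,[75,747,745,906,3298,2068,2070,2072,2298,2227,2172,3579,3577,3681,2180,3697,1210,3700,2188,3802,3804,3806,3808,3810,3812,3814,3816],[275,238,137,934,1381,1386,1255,1253]),(0,[],[]),(0,[],[]),(0,[],[]),(0,[],[]),(0,[],[]),(0,[],[]),(0,[],[]),(0,[],[]),(0,[],[]),(5,[3228,3292,1290,906,3298,2068,3820,3822,3824,3826,3828,3830,3832,3834,3836],[275,238,713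,711,709]),(3,[708,3070,3072,3074],[3839,3837]),(1,[3841],[]),(1,[3843,3835],[]),(1,[3176,3844],[]),(1,[3843,3836],[]),(1,[3847],[]),(1,[3851,3833],[]),(1,[3241,3852],[]),(1,[3855],[]),(1,[3857,3831],[]),(1,[3243,3858],[]),(1,[3861],[]),(1,[3863,3829],[]),(1,[3434,3864],[]),(1,[3867],[]),(1,[3869,3827],[]),(1,[3247,3870],[]),(1,[3873],[]),(1,[3875,3825],[]),(1,[3249,3876],[]),(1,[3879],[]),(1,[3881,3823],[]),(1,[3251,3882],[]),(1,[3885],[]),(1,[3887,3821],[]),(1,[3436,3888],[]),(1,[3890],[]),(1,[3893,3436],[]),(1,[3893,3254],[]),(1,[2071,3896],[]),(1,[3899],[]),(1,[3901,3256],[]),(1,[2073,3902],[]),(1,[3905],[]),(1,[3907,3258],[]),(1,[2075,3908],[]),(1,[3911],[]),(1,[3913,3260],[]),(1,[2077,3914],[]),(1,[3917],[]),(1,[3919,3439],[]),(2,[],[3801]),(2,[],[3779]),(3,[1284,1286,3720,3736,3738],[]),(2,[],[3735]),(2,[3802],[]),(2,[3722],[]),(2,[3730],[]),(2,[3740],[]),(2,[3746],[])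,(2,[3754],[]),(2,[3810],[]),(2,[3816],[]),(0,[],[]),(0,[],[]),(0,[],[]),(0,[],[]),(0,[],[]),(0,[],[]),(0,[],[]),(0,[],[]),(7,[236,59,412,414,416,418,420,3946,3948,3950,3952,3954,3956,3958,3960],[77,75,73,71,971,1039,1063,1061]),(0,[],[]),(0,[],[]),(8,[238,713,801,414,416,3010,3161,912,793,791,910,3964,3966],[77,75,73,1292,3583,3580,1405,1229,1401,1398,1368,1368,1221,1400,1228,1387,1213,935,135,311,309,875]),(0,[],[]),(0,[],[]),(0,[],[]),(0,[],[]),(0,[],[]),(5,[236,59,412,414,416,3010,3970,3972,3974,3976,3978],[77,75,747,1375,3515,3513,3511,3509,3507]),(0,[],[]),(0,[],[]),(0,[],[]),(0,[],[]),(0,[],[]),(0,[],[]),(5,[87,3,16,68,70,1292,3516,3518,3982,3984,3986,3988,3990,3992],[167,165,163,2273,2271,2269]),(2,[],[3963]),(3,[1252,3581,3518,3982,3984],[3819])]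

theorem ok7 : data.stepsOK st7 1750 = true := by decide +kernel

end

end Mem
end HN
end H39
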