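import Cfsg.Agent.H39.HN.Mem.Data

/-!
Steps of a derivation (generated data).
-/

set_option autoImplicit false
set_option maxRecDepth 100000
set_option linter.all false
set_option Elab.async false

namespace H39
namespace HN
namespace Mem

open H93.CosetI

noncomputable section

def st8 : List Step := [(1,[3998],[]),(1,[4001,3986],[]),(1,[3945,4002],[]),(1,[4001,3985],[]),(1,[4005],[]),(1,[4009,3988],[]),(2,[3970],[]),(2,[3950],[]),(2,[3954],[]),(2,[3978],[]),(2,[3992],[]),(0,[],[]),(0,[],[]),(0,[],[]),(0,[],[]),(0,[],[]),(0,[],[]),(0,[],[]),(0,[],[]),(0,[],[]),(0,[],[]),(0,[],[]),(0,[],[]),(0,[],[]),(0,[],[]),(0,[],[]),(0,[],[]),(0,[],[]),(5,[96,512,498,1372,1327,4030,4034,4036,4038,4040,4042,4044,4046,4048,4050,4052,4054],[279,1544,1546]),(0,[],[]),(0,[],[]),(0,[],[]),(0,[],[]),(0,[],[]),(0,[],[]),(0,[],[]),(0,[],[]),(0,[],[]),(0,[],[]),(7,[512,498,500,260,176,276,312,992,1093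,296,2520,4058,4060,4062,4064,4066,4068,4070,4072,4074,4076],[281,100]),(0,[],[]),(0,[],[]),(0,[],[]),(0,[],[]),(4,[97,192,146,1540,4080,4082,4084,4086],[281,100,4079]),(0,[],[]),(0,[],[]),(0,[],[]),(0,[],[]),(6,[512,890,725,1589,1590,4022,4024,4090,4092,4094,4096],[281,100,4079,4077]),(2,[],[4079]),(3,[1314,1316,1318,1327,4030,4032],[]),(1,[4102],[]),(1,[4105,4033],[]),(2,[4026],[]),(2,[],[4057]),(2,[4058],[]),(2,[4034],[]),(2,[4048],[]),(2,[4066],[]),(2,[4070],[]),(2,[4082],[]),(2,[4086],[]),(0,[],[]),(0,[],[]),(0,[],[]),(7,[1150,1018,1450,1452,2068,3894,3251,3249,3247,3434,3243,4126,4128,4130],[99,97,279,1544,1546,1548,295,1909,619]),(0,[],[]),(0,[],[]),(0,[],[]),(0,[],[]),(0,[],[]),(0,[],[]),(0,[],[]),(0,[],[]),(0,[],[]),(0,[],[]),(0,[],[]),(0,[],[]),(0,[],[]),(0,[],[]),(0,[],[]),(0,[],[]),(0,[],[]),(0,[],[]),(8,[100,102,1579,1452,2068,2070,3327,904,735,733,4134,4136,4138,4140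,4142,4144,4146,4148,4150,4152,4154,4156,4158,4160,4162,4164,4166,4168],[99,97,279,146,1581,4080,4123]),(0,[],[]),(0,[],[]),(0,[],[]),(0,[],[]),(0,[],[]),(0,[],[]),(0,[],[]),(0,[],[]),(4,[102,104,2542,2404,2406,4182,4184,4186],[4079,4077,4099]),(0,[],[]),(0,[],[]),(0,[],[]),(0,[],[]),(0,[],[]),(0,[],[]),(0,[],[]),(0,[],[]),(0,[],[]),(0,[],[]),(0,[],[]),(0,[],[]),(0,[],[]),(0,[],[]),(8,[102,1579,1451,1020,1492,1494,1496,1028,1415,1267,1410,4190,4192,4194,4196,4198,4200,4202,4204,4206,4208,4210,4212,4214,4216],[4079,4077,4099,4189,4187,4185,4183,2408,2410,2647]),(0,[],[]),(0,[],[]),(0,[],[]),(0,[],[]),(0,[],[]),(0,[],[]),(0,[],[]),(0,[],[]),(0,[],[]),(0,[],[]),(0,[],[]),(5,[101,1150,1018,1020,1492,1494,4220,4222,4224,4226,4228,4230,4232,4234,4236,4238,4240],[4079,4077,4075]),(5,[2542,2403,2401,112,114,584,1256,2795],[105,1579,1451,1201,1022,1024,1026,1203,1415,1267,1265,4190,4192]),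(1,[4245],[]),(1,[4247,4193],[]),(1,[4247,4194],[]),(1,[2795,4250],[]),(1,[4253],[]),(1,[4255,4196],[]),(1,[1371,4256],[]),(1,[4259],[]),(1,[4261,4198],[]),(1,[479,4262],[]),(1,[4265],[]),(1,[4267,4200],[]),(1,[269,4268],[]),(1,[4271],[]),(1,[4273,4202],[]),(1,[316,4274],[]),(1,[4277],[]),(1,[4279,4204],[]),(1,[939,4280],[]),(1,[4283],[]),(1,[4285,4206],[]),(1,[1329,4286],[]),(1,[4289],[]),(1,[4291,4208],[]),(1,[2202,4292],[]),(1,[4295],[]),(1,[4297,4210],[]),(1,[2200,4298],[]),(1,[4301],[]),(1,[4303,4212],[]),(1,[2198,4304],[]),(1,[4307],[]),(1,[4309,4214],[]),(1,[2393,4310],[]),(1,[4313],[]),(1,[4315,4216],[]),(3,[342,344],[4133,4131,4129]),(2,[4134],[]),(4,[745,906,3298,1596,1451,1020,1492,4172],[1375,3515,3537]),(4,[3515,3714,4323],[1235,745,743,3298,1453,1451,1201,1492]),(3,[2194,4316,4218,2414],[2886]),(2,[4182],[]),(7,[3848,3838,708,710,712,292,934,936,300,302,304,866,980,3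571,3593,336,338,340,342,344,4318],[3177,3240]),(3,[3534,4323,4174,4176,4178],[]),(2,[],[4243]),(2,[4142],[]),(2,[4146],[]),(2,[4166],[]),(2,[4180],[]),(2,[4234],[]),(0,[],[]),(0,[],[]),(0,[],[]),(0,[],[]),(0,[],[]),(0,[],[]),(0,[],[]),(0,[],[]),(0,[],[]),(0,[],[]),(0,[],[]),(0,[],[]),(0,[],[]),(7,[103,101,1150,1438,1440,4026,4028,4346,4348,4350,4352,4354,4356,4358,4360,4362,4364,4366,4368,4370],[283,106,2993]),(0,[],[]),(0,[],[]),(0,[],[]),(4,[1579,1452,2068,3894,4374,4376,4378],[283,106,2993,2964]),(0,[],[]),(0,[],[]),(0,[],[]),(0,[],[]),(0,[],[]),(0,[],[]),(0,[],[]),(6,[103,4100,4089,4124,4382,4384,4386,4388,4390,4392,4394],[283,106,2993,4373]),(0,[],[]),(0,[],[]),(0,[],[]),(0,[],[]),(0,[],[]),(0,[],[]),(0,[],[]),(0,[],[]),(0,[],[]),(0,[],[]),(0,[],[]),(0,[],[]),(0,[],[]),(0,[],[]),(0,[],[]),(0,[],[]),(0,[],[]),(0,[],[]),(0,[],[]),(0,[],[]),(8,[1579,1451,1019,1438,1440,1442,144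4,1446,4398,4400,4402,4404,4406,4408,4410,4412,4414,4416,4418,4420,4422,4424,4426,4428,4430,4432,4434,4436],[283,106,2993,2964,4381,4379,4377]),(0,[],[]),(0,[],[]),(0,[],[]),(0,[],[]),(7,[2542,2403,2401,112,114,116,118,120,810,876,3046,4440,4442,4444,4446],[105,1579,1597,3299,741,739,737,735]),(0,[],[]),(0,[],[]),(0,[],[]),(0,[],[]),(0,[],[]),(0,[],[]),(6,[2542,2404,4452,4454,4456,4458,4460],[105,1579,1597,3299,907,1291,1289,1287]),(0,[],[]),(0,[],[]),(0,[],[]),(0,[],[]),(2,[],[4449]),(3,[790,792,3164],[1449,4398,4400]),(1,[4475],[]),(1,[4477,4402],[]),(1,[3019,4478],[]),(1,[4477,4401],[]),(1,[4481],[]),(1,[4485,4404],[]),(2,[],[4463]),(3,[2964,2966,2968],[4373,4371,4369]),(1,[4491],[]),(1,[4493,4367],[]),(1,[3006,4494],[]),(1,[4493,4368],[])]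

theorem ok8 : data.stepsOK st8 2000 = true := by decide +kernel

def st9 : List Step := [(1,[4497],[]),(1,[4501,4365],[]),(2,[4450],[4381]),(1,[4504],[]),(1,[4507,4451],[]),(3,[3020,3022,3024],[4486,4406,4408]),(1,[4511],[]),(1,[4513,4410],[]),(1,[3027,4514],[]),(1,[4513,4409],[]),(1,[4517],[]),(1,[4521,4412],[]),(1,[3029,4522],[]),(1,[4525],[]),(1,[4527,4414],[]),(1,[3031,4528],[]),(1,[4531],[]),(1,[4533,4416],[]),(1,[3033,4534],[]),(1,[4537],[]),(1,[4539,4418],[]),(1,[3035,4540],[]),(1,[4543],[]),(1,[4545,4420],[]),(1,[909,4546],[]),(1,[4549],[]),(1,[4551,4422],[]),(1,[772,4552],[]),(1,[4555],[]),(1,[4557,4424],[]),(2,[4440],[]),(3,[],[3246,3248,3250,4374,4439,4437]),(1,[4563],[]),(1,[4565,4435],[]),(1,[3244,4566],[]),(1,[4565,4436],[]),(1,[4569],[]),(1,[4573,4433],[]),(2,[4354],[]),(2,[4362],[]),(2,[],[4397]),(2,[4428],[]),(3,[4430,4575,3243,3241,3078,3080],[]),(1,[4585],[]),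(1,[4587,4582],[]),(1,[3083,4588],[]),(1,[4587,4430],[]),(1,[4591],[]),(1,[4595,4427],[]),(1,[3085,4596],[]),(1,[4599],[]),(1,[4601,4559],[]),(1,[3087,4602],[]),(1,[4604],[]),(1,[4607,3088],[]),(1,[773,4608],[]),(1,[4607,3087],[]),(1,[4611],[]),(1,[4615,3090],[]),(1,[775,4616],[]),(1,[4615,3205],[]),(1,[4618],[]),(1,[4623,908],[]),(1,[4623,775],[]),(1,[4623,776],[]),(1,[381,4628],[]),(1,[4623,3035],[]),(1,[378,4632],[]),(1,[4631],[]),(1,[4637,879],[]),(1,[4637,3045],[]),(1,[383,4640],[]),(1,[4635],[]),(1,[4645,3033],[]),(1,[681,4646],[]),(1,[4643],[]),(1,[4651,3174],[]),(1,[385,4652],[]),(1,[4649],[]),(1,[4657,3170],[]),(1,[729,4658],[]),(1,[4655],[]),(1,[4663,3041],[]),(1,[52,4664],[]),(1,[4661],[]),(1,[4669,3029],[]),(1,[4667],[]),(1,[4673,3172],[]),(1,[271,4674],[]),(1,[4677],[]),(1,[4679,3037],[]),(1,[387,4680],[]),(1,[4679,3069],[]),(1,[48,4684],[]),(1,[4683],[]),(1,[4689,389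],[]),(1,[4689,390],[]),(1,[562,4692],[]),(1,[4687],[]),(1,[4697,3147],[]),(1,[478,4698],[]),(1,[4695],[]),(1,[4703,766],[]),(1,[285,4704],[]),(1,[4703,392],[]),(1,[115,4708],[]),(1,[4700],[]),(1,[4713,1256],[]),(1,[397,4714],[]),(1,[4713,478],[]),(1,[4707],[]),(1,[4721,768],[]),(1,[110,4722],[]),(1,[4711],[]),(1,[4727,394],[]),(1,[4717],[]),(1,[4731,2795],[]),(1,[399,4732],[]),(1,[4731,1258],[]),(1,[3151,4736],[]),(1,[4725],[]),(1,[4741,770],[]),(1,[2909,4742],[]),(1,[4735],[]),(1,[4747,2902],[]),(1,[401,4748],[]),(1,[4747,4248],[]),(1,[2095,4752],[]),(1,[4738],[]),(1,[4757,2146],[]),(1,[2867,4758],[]),(1,[4757,3151],[]),(1,[4757,2145],[]),(1,[1261,4764],[]),(1,[4744],[]),(1,[4769,2994],[]),(1,[4769,2909],[]),(1,[4769,2910],[]),(1,[773,4774],[]),(1,[4751],[]),(1,[4779,2791],[]),(1,[2099,4780],[]),(1,[4755],[]),(1,[4785,4191],[]),(1,[4760],[]),(1,[4789,2808],[]),(1,[4789,2867],[])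,(1,[4789,2807],[]),(1,[4767],[]),(1,[4797,2384],[]),(1,[4777],[]),(1,[4801,2912],[]),(1,[4621,4802],[]),(1,[4783],[]),(1,[4807,2900],[]),(1,[4807,2789],[]),(1,[4807,2961],[]),(1,[2010,4812],[]),(1,[4804],[]),(1,[4817,3203],[]),(1,[2915,4818],[]),(1,[4817,4621],[]),(1,[4815],[]),(1,[4825,2959],[]),(1,[2008,4826],[]),(1,[4821],[]),(1,[4831,3359],[]),(1,[4829],[]),(1,[4835,3004],[]),(1,[409,4836],[]),(1,[4839],[]),(1,[4841,2955],[]),(1,[154,4842],[]),(1,[4845],[]),(1,[4847,2953],[]),(1,[1908,4848],[]),(1,[4851],[]),(1,[4853,3002],[]),(1,[341,4854],[]),(1,[4857],[]),(1,[4859,2949],[]),(1,[343,4860],[]),(1,[4863],[]),(1,[4865,2947],[]),(1,[345,4866],[]),(1,[4869],[]),(1,[4871,2945],[]),(1,[4319,4872],[]),(1,[4874],[]),(1,[4877,4330],[]),(1,[3001,4878],[]),(1,[4877,4128],[]),(1,[4877,4319],[]),(1,[4881],[]),(1,[4887,3241],[]),(1,[4887,3242],[]),(1,[2940,4890],[]),(1,[4893],[]),(1,[4895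,3244],[]),(1,[4895,3435],[]),(1,[4895,4574],[]),(1,[2938,4900],[]),(1,[4903],[]),(1,[4905,4593],[]),(2,[4454],[]),(2,[4458],[]),(2,[4466],[]),(0,[],[]),(0,[],[]),(0,[],[]),(0,[],[]),(0,[],[]),(0,[],[]),(0,[],[]),(0,[],[]),(0,[],[]),(0,[],[]),(0,[],[]),(0,[],[]),(0,[],[]),(0,[],[]),(0,[],[]),(0,[],[]),(7,[107,2542,2403,4914,4916,4918,4920,4922,4924,4926,4928,4930,4932,4934,4936,4938,4940,4942,4944],[2993,4373,4397,4395]),(0,[],[]),(4,[108,4773,772,4627,379,626,684,4948],[2993,4373,4397]),(0,[],[]),(0,[],[]),(0,[],[]),(0,[],[]),(0,[],[]),(0,[],[]),(0,[],[]),(0,[],[]),(0,[],[]),(0,[],[]),(0,[],[]),(0,[],[]),(0,[],[]),(0,[],[]),(0,[],[]),(0,[],[]),(0,[],[]),(0,[],[]),(8,[108,110,2400,4914,4916,4952,4954,4956,4958,4960,4962,4964,4966,4968,4970,4972,4974,4976,4978,4980,4982,4984,4986],[2993,4373,4397,4951,4949,685,627,680,446,887,888,933]),(0,[],[]),(0,[],[]),(0,[],[]),(0,[],[]),(0,[],[])]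

theorem ok9 : data.stepsOK st9 2250 = true := by decide +kernel

def st10 : List Step := [(0,[],[]),(0,[],[]),(0,[],[]),(0,[],[]),(0,[],[]),(0,[],[]),(0,[],[]),(0,[],[]),(0,[],[]),(7,[109,107,2542,2404,4452,4454,4456,4990,4992,4994,4996,4998,5000,5002,5004,5006,5008,5010,5012,5014,5016],[4771,4612]),(0,[],[]),(0,[],[]),(4,[110,112,114,116,572,4948,5020,5022],[4771,4612,5019]),(0,[],[]),(0,[],[]),(0,[],[]),(0,[],[]),(0,[],[]),(0,[],[]),(0,[],[]),(6,[109,2962,2964,4509,5026,5028,5030,5032,5034,5036,5038],[4771,4612,5019,5017]),(0,[],[]),(8,[110,2400,2402,2404,4452,5042],[4771,4612,5019,5025,5023,5021,4949,685,375,757,755,753,2280,2380,1625,1623,1621,1619,1617,267,1072,1393,1330,2706,2877,2197,4316,4218,2413]),(0,[],[]),(0,[],[]),(0,[],[]),(0,[],[]),(5,[109,107,2542,2404,4452,5042,5046,5048,5050,5052],[4771,4612,3085,3083,3081,3079,4889,3001,4884,345]),(2,[],[5055]),(2,[4948],[]),(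2,[],[4989]),(2,[4914],[]),(2,[],[5019]),(3,[4394,4951,5020],[4947,4945]),(4,[4917,5062,2401,112,562,4691,563,284,2400,4914,4916,4918],[]),(1,[5068],[]),(1,[5071,4920],[]),(1,[4953,5072],[]),(1,[5074],[]),(1,[5077,4954],[]),(1,[4923,5078],[]),(1,[5077,4953],[]),(1,[5081],[]),(1,[5085,4956],[]),(2,[5086],[]),(2,[4926],[]),(2,[4942],[]),(2,[5010],[]),(2,[],[5041]),(2,[5046],[]),(0,[],[]),(0,[],[]),(0,[],[]),(0,[],[]),(0,[],[]),(0,[],[]),(7,[111,109,107,282,103,4100,4089,5100,5102,5104,5106,5108,5110],[285,562,4690,387,49,4719,629,4763,4791,4794]),(0,[],[]),(0,[],[]),(0,[],[]),(0,[],[]),(0,[],[]),(0,[],[]),(0,[],[]),(0,[],[]),(0,[],[]),(0,[],[]),(0,[],[]),(0,[],[]),(0,[],[]),(0,[],[]),(0,[],[]),(0,[],[]),(0,[],[]),(0,[],[]),(0,[],[]),(0,[],[]),(8,[2400,2402,2543,282,103,101,1150,1438,5114,5116,5118,5120,5122,5124,5126,5128,5130,5132,5134,5136,5138,5140,5142,5144,5146,5148,5150,5152],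[285,562,4690,563,113,2400,5063]),(0,[],[]),(0,[],[]),(0,[],[]),(0,[],[]),(0,[],[]),(0,[],[]),(0,[],[]),(0,[],[]),(7,[114,4728,4718,268,317,410,992,1093,160,2376,5156,5158,5160,5162,5164,5166,5168,5170],[113,2400,5063,5155,5153]),(0,[],[]),(0,[],[]),(0,[],[]),(6,[114,116,118,748,750,2378,2380,1626,5174,5176,5178],[113,2400,5063,5155]),(5,[402,404,406,408,156,2520,4058,4060,4062,4064,4066,4068],[401,399,4763,4791,4794,5113,5111,5109,5107]),(1,[5183],[]),(1,[5185,5105],[]),(1,[4120,5186],[]),(1,[5185,5106],[]),(1,[5189],[]),(1,[5193,5103],[]),(5,[738,740,3298,1596,1578,103,4100,4089,5100,5195,4120,5190],[737,735,733,4321,4136,4138,4140,4337]),(8,[773,4612,3085,3178,4907,2938,2940,2942,4884,345,5056,5053,5051,5049,5098,5044,2412,2414,4326,2716,2718,2720,2722,2724,2726],[4625,379,377,684,5059,4950,4581,4371,4499,3007,4502]),(1,[5199],[]),(1,[5201,4578],[]),(1,[2729,5202],[]),(1,[5201,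4503],[]),(1,[5205],[]),(1,[5209,4361],[]),(3,[1440,1442,1444],[5114,5116]),(3,[2148,2150],[4794,5113,5111]),(3,[2726,5206,2972,2974,4464],[]),(3,[2730,2732],[5210,4359,4357]),(3,[4916,5083,4922,4924],[5155,5153]),(1,[5221],[]),(1,[5223,5151],[]),(1,[5090,5224],[]),(1,[5223,5152],[]),(1,[5223,5173],[]),(1,[4924,5230],[]),(1,[5227],[]),(1,[5235,5149],[]),(1,[5233],[]),(1,[5239,5171],[]),(1,[5088,5240],[]),(1,[5243],[]),(1,[5245,5169],[]),(1,[4959,5246],[]),(1,[5249],[]),(1,[5251,5167],[]),(2,[],[5252]),(2,[5108],[]),(2,[5126],[]),(2,[5144],[]),(2,[],[5181]),(2,[5176],[]),(0,[],[]),(0,[],[]),(0,[],[]),(4,[4729,116,118,748,2288,2134,5268],[629,4763,4791,2148]),(2,[5266],[]),(0,[],[]),(0,[],[]),(0,[],[]),(0,[],[]),(0,[],[]),(0,[],[]),(5,[120,810,374,376,378,380,4639,382,656,447,728,730,732,4472,5284,5286],[871,2288,3100,4561]),(0,[],[]),(0,[],[]),(0,[],[]),(0,[],[]),(0,[],[]),(0,[],[]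),(0,[],[]),(0,[],[]),(0,[],[]),(0,[],[]),(0,[],[]),(0,[],[]),(0,[],[]),(0,[],[]),(0,[],[]),(7,[810,374,684,4948,5020,5022,5290,5292,5294,5296,5298,5300,5302,5304,5306,5308,5310,5312,5314,5316,5318],[289,124]),(0,[],[]),(4,[121,748,750,2378,2127,2152,2154,5322],[289,124,5321]),(0,[],[]),(0,[],[]),(0,[],[]),(0,[],[]),(0,[],[]),(0,[],[]),(0,[],[]),(0,[],[]),(0,[],[]),(0,[],[]),(5,[810,374,684,4948,5020,5066,5092,5326,5328,5330,5332,5334,5336,5338,5340,5342,5344],[289,124,126]),(2,[],[5321]),(2,[],[5347]),(7,[353,351,349,620,4885,3000,4888,3078,3080,3082,3084,5064,5025,5290,5292],[623,2979,2977,2975,2973,5207,2895,5210]),(4,[375,876,3046,4440,5289],[627,680,881,730,4321,4136]),(4,[680,728,730,4134,4136],[377,375,757,3046,4561,5289]),(2,[5276],[]),(3,[5012,5014,5016,5025,5290,5292],[]),(1,[5360],[]),(1,[5363,5352],[]),(1,[5095,5364],[]),(1,[5363,5293],[]),(1,[5366],[]),(1,[5371,5010],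[]),(1,[5371,5095],[]),(1,[5371,5009],[]),(1,[4358,5376],[]),(1,[5379],[]),(1,[5381,5007],[]),(2,[5308],[]),(2,[5312],[]),(0,[],[]),(0,[],[]),(0,[],[]),(0,[],[]),(0,[],[]),(0,[],[]),(0,[],[]),(0,[],[]),(0,[],[]),(0,[],[]),(0,[],[]),(0,[],[]),(0,[],[]),(0,[],[]),(0,[],[]),(2,[5400],[]),(2,[5390],[]),(2,[5404],[]),(2,[5414],[]),(0,[],[]),(0,[],[]),(0,[],[]),(0,[],[]),(0,[],[]),(0,[],[]),(0,[],[]),(0,[],[]),(0,[],[]),(0,[],[]),(0,[],[]),(0,[],[]),(0,[],[]),(0,[],[]),(7,[127,125,2986,5276,5278,5280,5282,5426,5428,5430,5432,5434,5436,5438,5440,5442,5444,5446,5448,5450,5452],[5347,5345]),(0,[],[]),(4,[128,130,132,604,309,780,3969,5456],[5347,5345,5455]),(0,[],[]),(0,[],[]),(0,[],[]),(0,[],[]),(0,[],[]),(0,[],[]),(0,[],[]),(0,[],[]),(0,[],[]),(8,[128,2991,2989,5276,5278,5460,5462,5464,5466,5468,5470,5472,5474,5476],[5347,5345,5455,5459,5457,3968,781,307,305,303,301,937,1381,1214,1216,1218,1398,1368,1368,1221,1219]),(0,[],[]),(4,[842,302,304,866,330],[131,2991,5419,5402,5423,5480]),(2,[],[5479]),(2,[5464],[]),(2,[5470],[]),(0,[],[]),(0,[],[]),(0,[],[]),(0,[],[]),(0,[],[])]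

theorem ok10 : data.stepsOK st10 2500 = true := by decide +kernel

def st11 : List Step := [(0,[],[]),(0,[],[]),(0,[],[]),(0,[],[]),(0,[],[]),(0,[],[]),(0,[],[]),(0,[],[]),(0,[],[]),(7,[132,134,934,1212,1214,1402,5490,5492,5494,5496,5498,5500,5502,5504,5506,5508,5510,5512,5514,5516],[131,2991,5419]),(0,[],[]),(0,[],[]),(0,[],[]),(5,[132,134,934,1212,1214,1216,5484,5477,5475,5473,5488,5469,5467,5486,5522,5524],[131,2991,2989,5359]),(3,[1236,5490,5492,5494],[3515,3513]),(1,[5528],[]),(1,[5531,5496],[]),(1,[5531,5495],[]),(1,[3510,5534],[]),(1,[5537],[]),(1,[5539,5493],[]),(2,[5532],[]),(3,[5402,5410,5412],[5519,5517,5515]),(1,[5545],[]),(1,[5547,5513],[]),(1,[5424,5548],[]),(1,[5551],[]),(1,[5553,5511],[]),(1,[5417,5554],[]),(1,[5557],[]),(1,[5559,5509],[]),(2,[5500],[]),(0,[],[]),(4,[135,604,852,3180,3182,5564],[293,713,711,3070,3417]),(0,[],[]),(0,[],[]),(0,[],[]),(0,[],[]),(6,[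934,1212,1214,1402,5490,5568,5570,5572,5574],[293,713,711,709,707,705]),(4,[713,900,3070,3206,5567],[137,135,311,852,3393,3182]),(0,[],[]),(8,[713,801,413,246,8,240,52,602,383,381,4624,773,4612,3085,3178,4907,2996,1032,1360,1300,2785,2783,2781,1308,1310,3414,3418,5580],[137,135,311,852,3393,3182,5579]),(2,[5568],[]),(0,[],[]),(0,[],[]),(0,[],[]),(0,[],[]),(0,[],[]),(0,[],[]),(0,[],[]),(0,[],[]),(0,[],[]),(0,[],[]),(0,[],[]),(0,[],[]),(0,[],[]),(0,[],[]),(0,[],[]),(0,[],[]),(7,[148,150,1549,4110,5590,5592,5594,5596,5598,5600,5602,5604,5606,5608,5610,5612,5614,5616],[1581,4080,4123,4171,4169]),(0,[],[]),(0,[],[]),(0,[],[]),(0,[],[]),(0,[],[]),(0,[],[]),(0,[],[]),(0,[],[]),(0,[],[]),(0,[],[]),(0,[],[]),(0,[],[]),(0,[],[]),(0,[],[]),(0,[],[]),(0,[],[]),(0,[],[]),(0,[],[]),(0,[],[]),(0,[],[]),(8,[147,1544,1546,4110,5590,5626,5628,5630,5632,5634,5636,5638,5640,5642,5644,5646,5648,5650,5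652,5654,5656,5658],[1581,4080,4123,4084,4125,4088,4101,102,1579,1597,3299,741,3319]),(2,[5620],[]),(5,[5661,5659,5657],[3307,739,3326,2119,2298,2227,2171,2121,2085,1619,1911,2464,2519,2639,1915,2642,1469,1467]),(1,[5664],[]),(1,[5667,5656],[]),(3,[4060,4062,4064],[5586,5588]),(3,[4084,4382],[4171,4169,5619]),(2,[5624],[]),(0,[],[]),(0,[],[]),(0,[],[]),(4,[151,5620,5622,5624,5680],[295,1909,619,342,5055,5053]),(0,[],[]),(0,[],[]),(0,[],[]),(0,[],[]),(0,[],[]),(0,[],[]),(6,[1549,4110,5590,5592,5594,5684,5686,5688,5690,5692,5694],[295,1909,619,4133]),(4,[1909,340,342,5056,5053],[153,151,5663,5622,5675,5680]),(2,[5676],[]),(2,[],[5697]),(0,[],[]),(0,[],[]),(0,[],[]),(0,[],[]),(0,[],[]),(0,[],[]),(0,[],[]),(0,[],[]),(0,[],[]),(0,[],[]),(8,[1909,339,2552,4058,4060,4062,4064,4066,5712,5714,5716,5718,5720,5722],[153,151,5663,5622,5675,5680,5699,5051,5049,5047,5043,4453,2405,2403,2401,111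,4771,4612,3085,3083,3081]),(0,[],[]),(0,[],[]),(0,[],[]),(0,[],[]),(0,[],[]),(2,[5726],[]),(5,[1032,1360,1412,1410,1263,1261,4793,2148,2150,5214,5256,5196,4144,4146,4148,4150],[2997,4906,3081,5725]),(2,[],[5725]),(2,[5704],[]),(3,[4068,5190,5196,4144],[5712,5714]),(1,[5745],[]),(1,[5747,5716],[]),(1,[4147,5748],[]),(1,[5747,5715],[]),(1,[5751],[]),(1,[5755,5718],[]),(2,[5734],[]),(0,[],[]),(0,[],[]),(0,[],[]),(0,[],[]),(0,[],[]),(0,[],[]),(0,[],[]),(0,[],[]),(0,[],[]),(0,[],[]),(0,[],[]),(0,[],[]),(0,[],[]),(0,[],[]),(7,[2520,2553,338,340,342,5056,5760,5762,5764,5766,5768,5770,5772,5774,5776,5778,5780,5782,5784,5786],[297,1092,1199]),(0,[],[]),(0,[],[]),(4,[157,606,2008,5676,5790,5792],[297,1092,1199,1042,2865]),(0,[],[]),(0,[],[]),(0,[],[]),(0,[],[]),(0,[],[]),(0,[],[]),(6,[2520,4058,4060,5704,5706,5796,5798,5800,5802,5804,5806],[297,1092,1199,5789]),(4,[1092,1040,1042,2796,5795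],[159,157,409,2008,5701,5790]),(0,[],[]),(0,[],[]),(0,[],[]),(0,[],[]),(0,[],[]),(0,[],[]),(0,[],[]),(0,[],[]),(0,[],[]),(0,[],[]),(0,[],[]),(0,[],[]),(8,[1092,993,313,166,87,3,16,68,971,1039,1206,1061,1059,1057,1210,3700,5812,5814,5816,5818,5820,5822,5824,5826,5828,5830,5832,5834],[159,157,409,2008,5701,5790,5811]),(3,[1042,1044,1046],[5789,5787,5785]),(1,[5839],[]),(1,[5841,5783],[]),(1,[1208,5842],[]),(1,[5841,5784],[]),(1,[5845],[]),(1,[5849,5781],[]),(1,[3702,5850],[]),(1,[5853],[]),(1,[5855,5779],[]),(1,[2390,5856],[]),(1,[5859],[]),(1,[5861,5777],[]),(1,[2887,5862],[]),(1,[5865],[]),(1,[5867,5775],[]),(1,[4326,5868],[]),(1,[5871],[]),(1,[5873,5773],[]),(1,[2414,5874],[]),(1,[5877],[]),(1,[5879,5771],[]),(1,[2412,5880],[]),(1,[5883],[]),(1,[5885,5769],[]),(1,[5044,5886],[]),(1,[5889],[]),(1,[5891,5767],[]),(1,[5098,5892],[]),(1,[5895],[]),(1,[5897,5765],[]),(2,[5812],[]),(2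,[],[5809]),(0,[],[]),(0,[],[]),(0,[],[]),(0,[],[]),(0,[],[]),(0,[],[]),(0,[],[]),(0,[],[]),(0,[],[]),(0,[],[]),(7,[162,164,312,314,938,1328,1330,2706,2877,2392,4316,5904,5906,5908,5910,5912,5914,5916,5918,5920,5922],[2273,2271]),(0,[],[]),(0,[],[]),(0,[],[]),(0,[],[]),(0,[],[]),(0,[],[]),(0,[],[]),(0,[],[]),(0,[],[]),(0,[],[]),(0,[],[]),(0,[],[]),(7,[164,312,992,1040,1042,2796,2798,5926,5928,5930,5932,5934,5936,5938,5940,5942,5944,5946,5948],[431,429,427,425]),(0,[],[]),(0,[],[]),(0,[],[]),(0,[],[]),(4,[163,2376,5156,5158,5952,5954,5956,5958],[431,429,427]),(0,[],[]),(0,[],[]),(0,[],[]),(0,[],[]),(0,[],[]),(0,[],[]),(0,[],[]),(0,[],[]),(0,[],[]),(0,[],[]),(0,[],[]),(0,[],[]),(8,[163,161,1092,1040,1042,1044,1046,1048,3703,2191,3802,3804,3806,3808,3810,3812,5962,5964,5966,5968,5970,5972,5974,5976,5978,5980,5982,5984],[431,429,427,5961,5959,5957,5955]),(2,[5962],[]),(7,[3814,4010,3990,3992,3994,2398,2985,2983,2981,2396,2299,2118,3327,738,740,742,744,1234,1236,5490,5541,3712],[5989]),(3,[3980,3506,5990,5964,5966],[]),(3,[5160,5162,5164],[5952,5987,5985]),(1,[5995],[]),(1,[5997,5983],[])]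

theorem ok11 : data.stepsOK st11 2750 = true := by decide +kernel

end

end Mem
end HN
end H39
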