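import Cfsg.Agent.H39.HN.Mem.Data

/-!
Steps of a derivation (generated data).
-/

set_option autoImplicit false
set_option maxRecDepth 100000
set_option linter.all false
set_option Elab.async false

namespace H39
namespace HN
namespace Mem

open H93.CosetI

noncomputable section

def st12 : List Step := [(1,[5254,5998],[]),(1,[6001],[]),(1,[6003,5981],[]),(1,[4961,6004],[]),(1,[6007],[]),(1,[6009,5979],[]),(2,[5976],[]),(0,[],[]),(0,[],[]),(0,[],[]),(0,[],[]),(0,[],[]),(0,[],[]),(0,[],[]),(7,[300,843,132,604,852,3180,5520,6026],[299,19,259,971,1039,1037,1035,1033,2997,4906,3081,3079,3077,3075,3386]),(0,[],[]),(0,[],[]),(8,[937,935,135,604,852,716,872,610,301,937,1212,1386,1229,1401,1220,1369,1399,1400,1228,1404,1253,3819,4006,6030,6032],[299,19,259,70,273,747,1375,3515,3513,5543]),(5,[1236,5490,5541,3712,5990,5964],[1235,745,1291,1289,1287,1285,3927,3937,3742,3744,3939,3748,3750,3752,394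1]),(1,[6036],[]),(1,[6039,5966],[]),(1,[3757,6040],[]),(1,[6043],[]),(1,[6045,5968],[]),(1,[3759,6046],[]),(1,[6045,5992],[]),(1,[6049],[]),(1,[6053,5970],[]),(2,[6030],[]),(2,[6014],[]),(2,[6022],[]),(0,[],[]),(0,[],[]),(0,[],[]),(0,[],[]),(0,[],[]),(0,[],[]),(0,[],[]),(0,[],[]),(0,[],[]),(0,[],[]),(0,[],[]),(0,[],[]),(0,[],[]),(5,[306,308,852,3180,5520,6026,6068,6070,6072,6074,6076,6078,6080,6082,6084,6086],[868,330,332,5737]),(0,[],[]),(0,[],[]),(0,[],[]),(0,[],[]),(0,[],[]),(4,[307,866,980,982,6092,6094,6096,6098],[875,782,3801]),(0,[],[]),(0,[],[]),(0,[],[]),(0,[],[]),(0,[],[]),(0,[],[]),(8,[307,305,873,718,1322,1345,1343,726,513,97,192,1544,1546,1548,152,154,606,2008,2010,4808,2847,2845,6102,6104,6106,6108,6110,6112],[875,782,3801,6101,6099,6097,6095]),(0,[],[]),(0,[],[]),(0,[],[]),(0,[],[]),(0,[],[]),(0,[],[]),(0,[],[]),(0,[],[]),(0,[],[]),(0,[],[]),(0,[],[]),(5,[308,852,716,718,1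322,1345,6116,6118,6120,6122,6124,6126,6128,6130,6132,6134,6136],[875,782,784]),(5,[338,1908,154,606,2008,2010,4808,2787,2480],[337,3592,3570,1195,6092,6115,6113,6111,6109,6107,6105]),(2,[6116],[]),(3,[5448,5450,5452,5459,6062],[]),(3,[5728,5730,5732],[6089,6087,6085]),(1,[6147],[]),(1,[6149,6083],[]),(1,[5758,6150],[]),(1,[6153],[]),(1,[6155,6081],[]),(2,[6068],[]),(2,[6076],[]),(2,[6094],[]),(2,[6098],[]),(2,[6104],[]),(2,[6110],[]),(0,[],[]),(0,[],[]),(0,[],[]),(0,[],[]),(0,[],[]),(0,[],[]),(0,[],[]),(8,[309,307,305,610,843,132,134,136,713,801,414,758,799,797,912,3164,3018,3020,3022,6170,6172,6174,6176,6178,6180,6182],[605,133,131,129,5347,5345,5455,5453,5451]),(0,[],[]),(8,[313,165,163,2376,5156,6186],[411,316,269,48,271,241,257,55,53,51,49,4719,629,398,2094,4786,1411,1413,1361,1205,1356,3583,3518,3982,4007,3817,4010,3990,4021]),(0,[],[]),(0,[],[]),(0,[],[]),(0,[],[]),(0,[],[]),(5,[99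2,1093,160,2376,5156,6186,6190,6192,6194,6196,6198],[411,316,45,2541,2689,2779,2935,2933,2931]),(2,[6170],[]),(2,[],[6185]),(2,[6178],[]),(2,[6190],[]),(2,[6198],[]),(0,[],[]),(8,[316,45,43,574,1082,6212],[315,313,277,87,201,206,11,9,7,5,86,177,261,24,195,96,281,100,102,283,106,2993,2964,2966,2968,3007,2972,2974,3009]),(0,[],[]),(0,[],[]),(0,[],[]),(0,[],[]),(0,[],[]),(5,[938,1073,40,574,1082,6212,6216,6218,6220,6222,6224],[315,313,165,431,429,1661,2104,3735,3733]),(2,[6216],[]),(2,[6224],[]),(0,[],[]),(0,[],[]),(0,[],[]),(0,[],[]),(0,[],[]),(0,[],[]),(0,[],[]),(0,[],[]),(0,[],[]),(0,[],[]),(0,[],[]),(0,[],[]),(0,[],[]),(0,[],[]),(0,[],[]),(0,[],[]),(0,[],[]),(0,[],[]),(0,[],[]),(0,[],[]),(0,[],[]),(7,[333,331,980,982,984,986,988,6246,6248,6250,6252,6254,6256,6258,6260,6262,6264,6266,6268,6270,6272],[5737,6089]),(0,[],[]),(0,[],[]),(4,[334,336,338,340,4133,5702,6276,6278],[5737,6089,6275]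),(0,[],[]),(8,[334,3592,3570,982,984,6282],[5737,6089,6275,6281,6279,6277,5703,4131,4883,2943,2941,2939,2937,1032,1360,1412,1265,4787,2095,631,2098,4810,2787,2480,6140,6167,6106,6108,6169]),(0,[],[]),(2,[6232],[]),(2,[6236],[]),(2,[6242],[]),(2,[6286],[]),(0,[],[]),(0,[],[]),(0,[],[]),(0,[],[]),(7,[335,333,331,869,306,780,3969,3967,3965,788,790,6296,6298,6300,6302],[617,2552,4113,5586,5588,5671,4119,5712]),(0,[],[]),(0,[],[]),(4,[3592,6232,6234,6236,6306,6308],[617,2552,4113,4060,5743]),(0,[],[]),(0,[],[]),(0,[],[]),(0,[],[]),(0,[],[]),(0,[],[]),(0,[],[]),(0,[],[]),(0,[],[]),(0,[],[]),(0,[],[]),(0,[],[]),(0,[],[]),(7,[338,1908,154,606,2008,5676,5678,6312,6314,6316,6318,6320,6322,6324,6326,6328,6330,6332,6334,6336],[337,3592,6289]),(4,[2552,4058,4060,5704,6311],[337,3592,6289,6234,6291,6306]),(0,[],[]),(0,[],[]),(0,[],[]),(0,[],[]),(0,[],[]),(8,[2552,2521,157,606,2008,2010,2099,630,399,47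63,4793,4794,5113,5111,5256,5196,4336,4141,4139,5356,5287,5285,4447,6342,6344,6346,6348,6350],[337,3592,6289,6234,6291,6306,6341]),(2,[6296],[]),(2,[6342],[]),(3,[5706,5708,5710],[6311,6353,6351]),(1,[6359],[]),(1,[6361,6350],[]),(2,[],[6305]),(3,[6234,6238,6240],[6339,6337,6335]),(1,[6367],[]),(1,[6369,6333],[]),(1,[6292,6370],[]),(1,[6373],[]),(1,[6375,6331],[]),(1,[6245,6376],[]),(1,[6379],[]),(1,[6381,6329],[]),(2,[],[6382]),(0,[],[]),(0,[],[]),(0,[],[]),(0,[],[]),(0,[],[]),(0,[],[]),(0,[],[]),(0,[],[]),(0,[],[]),(7,[1908,154,156,158,160,2376,5156,6186,6188,4020,6386,6388,6390,6392,6394,6396,6398,6400,6402],[619,4133,5697,5695]),(0,[],[]),(5,[1908,154,156,158,160,162,608,1534,1916,1918,3928,6406],[619,4133,4131,6059,6016,6018,6020,6061]),(0,[],[]),(0,[],[]),(0,[],[]),(0,[],[]),(0,[],[]),(0,[],[]),(0,[],[]),(0,[],[]),(0,[],[]),(0,[],[]),(0,[],[]),(0,[],[]),(0,[],[]),(0,[],[]),(0,[],[])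,(0,[],[]),(8,[4133,4131,4883,3000,4888,3078,3080,3082,4833,2915,6410,6412,6414,6416,6418,6420,6422,6424,6426,6428,6430,6432,6434,6436,6438,6440],[341,339,337,335,5737,6089,6275,6273,6271]),(5,[5846,5786,5788,1198,1093,160,2376,5156,6186,6188,4020,6386],[1209,3703,2191,3931,3804,3806,3808,3943]),(3,[3732,6406,6408,6024],[6227]),(2,[],[6443]),(2,[6388],[]),(2,[6400],[]),(0,[],[]),(0,[],[]),(0,[],[]),(0,[],[]),(0,[],[]),(0,[],[]),(8,[343,4133,4131,6014,6454,6464],[5055,5053,5683,5681,5625,5623,5621,149,147,193,194,25,23,176,87,3,1,2,86,167,165,431,1534,1916,1918,3735,6406,6408,6023]),(0,[],[]),(0,[],[]),(0,[],[]),(0,[],[]),(0,[],[]),(0,[],[]),(0,[],[]),(0,[],[]),(0,[],[]),(0,[],[]),(0,[],[]),(0,[],[]),(0,[],[]),(0,[],[]),(0,[],[]),(0,[],[])]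

theorem ok12 : data.stepsOK st12 3000 = true := by decide +kernel

def st13 : List Step := [(0,[],[]),(0,[],[]),(0,[],[]),(0,[],[]),(0,[],[]),(0,[],[]),(0,[],[]),(0,[],[]),(0,[],[]),(0,[],[]),(0,[],[]),(0,[],[]),(0,[],[]),(0,[],[]),(0,[],[]),(5,[4885,4882,4130,5702,6276,6480,6508,6510,6512,6514,6516,6518,6520,6522,6524,6526,6528],[621,348,350]),(2,[],[6531]),(2,[6456],[]),(2,[6478],[]),(3,[5694,6276,6480,6482],[6405,6403]),(1,[6538],[]),(1,[6541,6484],[]),(1,[6453,6542],[]),(1,[6545],[]),(1,[6547,6486],[]),(1,[6398,6548],[]),(1,[6551],[]),(1,[6553,6488],[]),(3,[6268,6270,6272,6281,6468,6470],[]),(1,[6556],[]),(1,[6559,6472],[]),(1,[6269,6560],[]),(1,[6563],[]),(1,[6565,6474],[]),(1,[6449,6566],[]),(1,[6569],[]),(1,[6571,6476],[]),(2,[6490],[]),(2,[6498],[]),(5,[6497,6495,6493,6574,6555,6398,6400,6402,6404,5694,5696,4132,342,5056,5760,5762,5899,5098,5044,2411],[6577]),(1,[6579],[]),(1,[6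581,6500],[]),(1,[2408,6582],[]),(1,[6585],[]),(1,[6587,6502],[]),(1,[4183,6588],[]),(1,[6591],[]),(1,[6593,6504],[]),(1,[4185,6594],[]),(1,[6597],[]),(1,[6599,6506],[]),(0,[],[]),(0,[],[]),(0,[],[]),(0,[],[]),(0,[],[]),(0,[],[]),(0,[],[]),(7,[2580,2536,2538,354,356,2582,2473,6602,6604,6606,6608,6610,6612,6614],[347,345,5055,5053,5051,5049,5047,5043,4909]),(0,[],[]),(0,[],[]),(0,[],[]),(0,[],[]),(0,[],[]),(0,[],[]),(0,[],[]),(5,[2414,4326,2887,2390,3702,1050,2442,2444,2446,2448,2450,2452],[2413,5045,5043,4909,6617,6615,6613,6611,6609]),(1,[6633],[]),(1,[6635,6607],[]),(1,[2652,6636],[]),(1,[6635,6608],[]),(1,[6639],[]),(1,[6643,6605],[]),(5,[2473,6602,6645,2652,6640],[2583,357,2979,2977,2975,2973,5207,2895,5210,4359,5382,5005,5003,5001,4999,4997]),(1,[6646],[]),(1,[6649,6641],[]),(2,[6622],[]),(2,[6618],[]),(2,[6626],[]),(0,[],[]),(0,[],[]),(0,[],[]),(0,[],[]),(0,[],[]),(0,[],[]),(0,[],[]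),(0,[],[]),(0,[],[]),(0,[],[]),(0,[],[]),(0,[],[]),(0,[],[]),(0,[],[]),(7,[351,349,2580,6456,6458,6460,6462,6658,6660,6662,6664,6666,6668,6670,6672,6674,6676,6678,6680,6682,6684],[6531,6529]),(0,[],[]),(0,[],[]),(4,[352,354,356,2582,2461,2654,6688,6690],[6531,6529,6687]),(0,[],[]),(0,[],[]),(0,[],[]),(0,[],[]),(0,[],[]),(0,[],[]),(0,[],[]),(0,[],[]),(0,[],[]),(0,[],[]),(0,[],[]),(0,[],[]),(0,[],[]),(0,[],[]),(0,[],[]),(0,[],[]),(0,[],[]),(0,[],[]),(0,[],[]),(8,[352,2539,2537,6456,6458,6694,6696,6698,6700,6702,6704,6706,6708,6710,6712,6714,6716,6718,6720,6722,6724,6726,6728,6730],[6531,6529,6687,6693,6691,6689,2655,2459,2457,2455,2453]),(0,[],[]),(0,[],[]),(4,[2539,6622,6624,6626,6734,6736],[623,2979,2977,4464,4913]),(0,[],[]),(0,[],[]),(0,[],[]),(0,[],[]),(0,[],[]),(0,[],[]),(0,[],[]),(6,[353,6532,6628,6630,6740,6742,6744,6746,6748,6750,6752],[623,2979,2977,2975]),(0,[],[]),(0,[],[]),(5,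[353,351,349,620,4885,4882,6014,6454,6464,6466,6022,6024,6446,6230,6756,6758],[623,2979,6215,6229]),(4,[2979,3008,4464,4466,6739],[355,2539,6653,6624,6657,6734]),(2,[],[6755]),(2,[6698],[]),(2,[6704],[]),(0,[],[]),(0,[],[]),(0,[],[]),(0,[],[]),(0,[],[]),(0,[],[]),(0,[],[]),(0,[],[]),(0,[],[]),(0,[],[]),(0,[],[]),(0,[],[]),(0,[],[]),(0,[],[]),(0,[],[]),(0,[],[]),(0,[],[]),(8,[2979,6215,6213,948,950,952,954,956,2862,2745,2898,6770,6772,6774,6776,6778,6780,6782,6784,6786,6788,6790,6792,6794,6796,6798,6800,6802],[355,2539,6653,6624,6657,6734,6763]),(0,[],[]),(0,[],[]),(0,[],[]),(0,[],[]),(0,[],[]),(0,[],[]),(0,[],[]),(0,[],[]),(0,[],[]),(0,[],[]),(5,[356,358,1082,948,950,952,6806,6808,6810,6812,6814,6816,6818,6820,6822,6824],[355,2539,2537,6535]),(2,[6806],[]),(5,[2858,2752,2691,1170,6212,6214,3008,4464,5216,2726,2728,2730,2732,2734],[1173,2862,2745,2743,6770,6772,6774]),(1,[6831],[]),(1,[683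3,6776],[]),(1,[2897,6834],[]),(1,[6833,6775],[]),(1,[6837],[]),(1,[6841,6778],[]),(1,[5219,6842],[]),(1,[6845],[]),(1,[6847,6780],[]),(1,[4577,6848],[]),(1,[6851],[]),(1,[6853,6782],[]),(3,[4468,4470],[6739,6805,6803]),(3,[6458,6694,6696],[6827,6825,6823]),(1,[6859],[]),(1,[6861,6821],[]),(1,[6766,6862],[]),(1,[6865],[]),(1,[6867,6819],[]),(1,[6701,6868],[]),(1,[6871],[]),(1,[6873,6817],[]),(1,[6703,6874],[]),(1,[6877],[]),(1,[6879,6815],[]),(1,[6768,6880],[]),(1,[6883],[]),(1,[6885,6813],[]),(1,[6707,6886],[]),(1,[6889],[]),(1,[6891,6811],[]),(1,[6709,6892],[]),(1,[6895],[]),(1,[6897,6809],[]),(1,[6711,6898],[]),(1,[6901],[]),(1,[6903,6828],[]),(1,[6713,6904],[]),(1,[6906],[]),(1,[6909,6714],[]),(1,[955,6910],[]),(1,[6913],[]),(1,[6915,6716],[]),(1,[957,6916],[]),(1,[6919],[]),(1,[6921,6718],[]),(1,[959,6922],[]),(1,[6925],[]),(1,[6927,6720],[]),(2,[6786],[]),(2,[6794],[]),(2,[6800],[])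,(7,[1082,6212,6214,3008,4464,4466,4468,4470,6856,6934],[575,41,39,37,2029,2083,2081,2079,3920,3264,3266,3268,3441]),(0,[],[]),(0,[],[]),(0,[],[]),(7,[374,684,573,286,4728,396,398,2094,4786,1264,1266,1268,1270,1272,6940,6942],[757,755,1167,916,918,920,1169]),(0,[],[]),(0,[],[]),(0,[],[]),(4,[811,122,2986,5276,5527,6946,6948,6950],[757,755,1167]),(0,[],[]),(0,[],[]),(0,[],[]),(0,[],[]),(0,[],[]),(6,[374,376,378,4624,4823,6410,6954,6956,6958,6960,6962],[757,755,1167,916]),(0,[],[]),(0,[],[]),(8,[811,121,119,286,4728,4718,48,50,241,9,56,58,237,238,292,934,1212,1214,1216,5484,6966,6968],[757,755,1167,6953,6951,6949,6947,5525,5523,5487,5466,5468,5489]),(2,[],[6965]),(3,[1270,1272,6940],[3444,3446]),(3,[2452,6651,4996,6938],[6733]),(3,[3272,3274],[6937,6799,6797]),(2,[6942],[]),(2,[6950],[]),(0,[],[]),(7,[684,573,118,748,750,2378,2380,1625,1623,1912,2084,2120,2170,2226,2299,2118,3327,904,6984],[627,680,881,4670]),(0,[],[]),(5,[684,573,118,748,750,752,914,6953,6988],[627,680,446,887,888,933,1161,895,1164,925,923]),(0,[],[]),(0,[],[]),(0,[],[]),(0,[],[])]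

theorem ok13 : data.stepsOK st13 3250 = true := by decide +kernel

def st14 : List Step := [(0,[],[]),(0,[],[]),(0,[],[]),(7,[380,382,656,686,688,2700,2702,6992,6994,6996,6998,7000,7002,7004],[4626,773,4772,110,2400,2402,2645,2406,4329]),(0,[],[]),(0,[],[]),(5,[380,382,656,686,688,690,7008,7010],[4626,773,4612,5019,5017,5015,5013,5373,4359,4357,4355,4353]),(0,[],[]),(0,[],[]),(7,[382,656,447,728,730,4134,7014,7016],[4638,381,4626,773,4612,3085,3083,3081,5725,5739,4151,4149,4147,4145,4143]),(2,[7008],[]),(3,[4184,6600],[7007,7005,7003]),(3,[4352,6854,6784],[7013,7011]),(2,[7000],[]),(0,[],[]),(0,[],[]),(0,[],[]),(0,[],[]),(0,[],[]),(0,[],[]),(0,[],[]),(0,[],[]),(0,[],[]),(8,[4763,1260,1262,1264,1266,1414,1030,2936,4906,3081,5740,5739,4151,4149,4338,5752,6364,7028,7030,7032,7034,7036,7038,7040,7042,7044],[397,4729,287,118,871,2288,2383,2136,2138]),(7,[3070,3072,3074,3076,3078,5740,5723,57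21,5757,4338,5752,6364,7028,7030],[901,801,633,758,799,797,795,793,6355]),(2,[7032],[]),(2,[7040],[]),(0,[],[]),(0,[],[]),(0,[],[]),(0,[],[]),(0,[],[]),(0,[],[]),(0,[],[]),(0,[],[]),(0,[],[]),(0,[],[]),(0,[],[]),(0,[],[]),(0,[],[]),(6,[2094,2018,2020,7064,7066,7068,7070,7072,7074,7076,7078],[631,2098,4810,2847]),(0,[],[]),(8,[399,4763,1260,4798,2141,2139,2137,2382,3100,3047,756,811,121,119,286,4728,396,398,2094,2018,7082],[631,2098,4810,2787,2479,2477,2475,43,41,39,37,2029,2027,2039]),(2,[7064],[]),(2,[],[7081]),(3,[7042,7044,7054,7056,7058],[]),(2,[7060],[]),(2,[7076],[]),(0,[],[]),(0,[],[]),(0,[],[]),(3,[2476,7096,7098,7100],[2689,2779]),(1,[7102],[]),(1,[7105,7101],[]),(1,[2934,7106],[]),(1,[7109],[]),(1,[7111,7099],[]),(0,[],[]),(0,[],[]),(0,[],[]),(0,[],[]),(0,[],[]),(0,[],[]),(7,[800,712,239,274,3228,3230,3790,7124],[633,758,893,933,1161,693,7021,7025,6931,6788,6790,6792,6933,6979,3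443]),(0,[],[]),(0,[],[]),(0,[],[]),(0,[],[]),(0,[],[]),(6,[800,900,3070,3206,3208,7128,7130,7132,7134,7136],[633,758,893,933,4989]),(0,[],[]),(0,[],[]),(0,[],[]),(0,[],[]),(0,[],[]),(0,[],[]),(5,[800,712,239,274,3228,3292,1422,3720,3736,3738,3740,7140,7142,7144,7146,7148,7150],[633,758,799]),(2,[],[7153]),(2,[7136],[]),(2,[7144],[]),(0,[],[]),(0,[],[]),(8,[758,799,797,912,3164,4482,4399,1594,1445,1443,4026,7160,7162],[415,413,57,8,257,55,385,383,381,4626,773,4612,5019,5025,5290,5369,5373,4359,4357,4355,4353,4351]),(0,[],[]),(0,[],[]),(0,[],[]),(5,[416,3010,3161,912,3164,4482,7166,7168,7170],[415,413,58,254,237,238,713,711,709,3839,6537]),(0,[],[]),(0,[],[]),(0,[],[]),(0,[],[]),(0,[],[]),(0,[],[]),(0,[],[]),(0,[],[]),(0,[],[]),(0,[],[]),(0,[],[]),(0,[],[]),(0,[],[]),(0,[],[]),(0,[],[]),(0,[],[]),(0,[],[]),(0,[],[]),(7,[3010,3161,796,7154,7174,7176,7178,7180,7182,7184,7186,7188,7190,7192,7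194,7196,7198,7200,7202,7204,7206,7208],[635]),(0,[],[]),(0,[],[]),(4,[417,632,800,900,709,898,7212,7214],[635,7211,7209]),(0,[],[]),(0,[],[]),(0,[],[]),(8,[417,758,799,7154,7174,7222],[635,7211,7209,7217,7215,7213,899,3839,3849,3177,4889,2941,4898,4570,4438,4375,3895,2069,3299,907,1291,1289,3720,3736,3738,3937,7140,7142,7159]),(0,[],[]),(0,[],[]),(0,[],[]),(0,[],[]),(0,[],[]),(0,[],[]),(0,[],[]),(0,[],[]),(0,[],[]),(0,[],[]),(0,[],[]),(0,[],[]),(5,[3010,3161,796,7154,7174,7222,7226,7228,7230,7232,7234,7236,7238,7240,7242,7244,7246,7248],[635,7211]),(3,[420,3946,3948],[7211,7251]),(8,[981,330,332,5726,5728,5730,5732,5734,6156,6079,6160,6075,6073,6071,6158,6028,3387,3074,3848,6478,7173,7171,7169],[1195,6092,6163,6096,6165,6100,3923,784,786,911,1449,4398]),(2,[7218],[]),(2,[7208],[]),(2,[7214],[]),(2,[7248],[]),(0,[],[]),(0,[],[]),(0,[],[]),(0,[],[]),(0,[],[]),(0,[],[]),(0,[],[]),(0,[],[]),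(0,[],[]),(0,[],[]),(0,[],[]),(0,[],[]),(0,[],[]),(0,[],[]),(0,[],[]),(0,[],[]),(0,[],[]),(0,[],[]),(0,[],[]),(0,[],[]),(0,[],[]),(8,[7211,7251,7253,3950,3952,7264,7266,7268,7270,7272,7274,7276,7278,7280,7282,7284,7286,7288,7290,7292,7294,7296,7298,7300,7302,7304],[419,417,415,800,711,709,707,705,703]),(0,[],[]),(0,[],[]),(0,[],[]),(0,[],[]),(0,[],[]),(0,[],[]),(0,[],[]),(0,[],[]),(0,[],[]),(0,[],[]),(0,[],[]),(0,[],[]),(0,[],[]),(0,[],[]),(0,[],[]),(0,[],[]),(0,[],[]),(7,[3946,3948,7252,7262,7308,7310,7312,7314,7316,7318,7320,7322,7324,7326,7328,7330,7332,7334,7336,7338,7340],[637,5951]),(0,[],[]),(0,[],[]),(0,[],[]),(0,[],[]),(4,[421,634,3010,3970,7344,7346,7348,7350],[637,5951,7343]),(0,[],[]),(0,[],[]),(0,[],[]),(0,[],[]),(0,[],[]),(0,[],[]),(0,[],[]),(0,[],[]),(0,[],[]),(0,[],[]),(0,[],[]),(0,[],[]),(0,[],[]),(0,[],[]),(0,[],[]),(0,[],[]),(0,[],[]),(0,[],[]),(0,[],[]),(0,[],[]),(0,[]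,[]),(0,[],[]),(0,[],[]),(8,[421,7211,7251,7262,7308,7354,7356,7358,7360,7362,7364,7366,7368,7370,7372,7374,7376,7378,7380,7382,7384,7386,7388,7390,7392,7394,7396,7398],[637,5951,7343,7353,7351,7349,7347]),(2,[],[7307]),(8,[3299,741,739,904,6984,6986,4671,880,446,657,384,53,241,9,56,412,414,416,3010,3970,7344,7401,7399],[1453,1451,1201,1492,4325,4322,3715,3513,3511,3509,3507,3981,3979]),(1,[7404],[]),(1,[7407,7397],[]),(1,[4018,7408],[]),(1,[7411],[]),(1,[7413,7395],[]),(1,[6050,7414],[]),(1,[7417],[]),(1,[7419,7393],[]),(1,[3756,7420],[]),(1,[7423],[]),(1,[7425,7391],[]),(1,[3754,7426],[]),(1,[7429],[]),(1,[7431,7389],[]),(1,[3752,7432],[]),(1,[7435],[]),(1,[7437,7387],[]),(1,[3750,7438],[]),(1,[7441],[]),(1,[7443,7385],[]),(1,[3748,7444],[]),(1,[7447],[]),(1,[7449,7383],[]),(1,[3746,7450],[]),(1,[7453],[]),(1,[7455,7381],[]),(3,[7140,7142],[3742,3744,7456,7379]),(1,[7459],[]),(1,[7461,7378],[]),(2,[7268],[]),(0,[],[]),(0,[],[]),(0,[],[]),(0,[],[]),(0,[],[]),(0,[],[]),(0,[],[]),(0,[],[]),(0,[],[]),(0,[],[]),(0,[],[]),(0,[],[]),(0,[],[]),(7,[424,5961,7466,7468,7470,7472,7474,7476,7478,7480,7482,7484,7486,7488,7490],[423,421,419,417,758,799,7153,7151]),(2,[],[7493]),(0,[],[]),(0,[],[])]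

theorem ok14 : data.stepsOK st14 3500 = true := by decide +kernel

def st15 : List Step := [(0,[],[]),(0,[],[]),(0,[],[]),(0,[],[]),(0,[],[]),(0,[],[]),(0,[],[]),(0,[],[]),(0,[],[]),(0,[],[]),(0,[],[]),(0,[],[]),(7,[1534,1916,1918,3928,6406,7504,7506,7508,7510,7512,7514,7516,7518,7520,7522],[609,163,2273,2271,2269,3995,3993,3991]),(2,[7496],[]),(2,[],[7525]),(2,[7500],[]),(2,[7516],[]),(0,[],[]),(0,[],[]),(0,[],[]),(0,[],[]),(0,[],[]),(0,[],[]),(7,[573,118,120,122,2986,5276,5278,5460,5462,5464,7534,7536,7538,7540,7542,7544],[5059,4950,4581,4371,4499,2969,5275]),(0,[],[]),(0,[],[]),(0,[],[]),(4,[446,686,688,2700,7548,7550,7552],[881,4670,3027,4518]),(0,[],[]),(0,[],[]),(0,[],[]),(0,[],[]),(0,[],[]),(0,[],[]),(0,[],[]),(0,[],[]),(0,[],[]),(0,[],[]),(0,[],[]),(0,[],[]),(0,[],[]),(0,[],[]),(0,[],[]),(0,[],[]),(0,[],[]),(0,[],[]),(8,[446,657,383,4639,382,656,447,728,4670,6987,7556,7558,7560,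7562,7564,7566,7568,7570,7572,7574,7576,7578,7580,7582,7584,7586,7588,7590],[881,4670,3027,4518,7555,7553,7551]),(0,[],[]),(0,[],[]),(0,[],[]),(0,[],[]),(0,[],[]),(5,[681,378,380,4639,382,656,686,688,690,692,694,696,7594,7596,7598,7600,7602],[881,4670,6987]),(3,[696,7594],[1164,925,6945]),(3,[2702,6992,6994],[7548,7593,7591]),(1,[7609],[]),(1,[7611,7590],[]),(2,[],[7555]),(2,[7556],[7605]),(1,[7617],[]),(1,[7619,7604],[]),(1,[7619,7603],[]),(1,[7559,7622],[]),(1,[7625],[]),(1,[7627,7601],[]),(1,[7561,7628],[]),(1,[7631],[]),(1,[7633,7599],[]),(1,[7563,7634],[]),(1,[7637],[]),(1,[7639,7597],[]),(2,[7550],[]),(2,[7564],[7640]),(1,[7645],[]),(1,[7647,7641],[]),(1,[7647,7606],[]),(1,[7567,7650],[]),(1,[7647,7595],[]),(1,[7652],[]),(1,[7657,7568],[]),(1,[6981,7658],[]),(1,[7657,7567],[]),(1,[7661],[]),(1,[7665,7570],[]),(1,[6975,7666],[]),(1,[7669],[]),(1,[7671,7572],[]),(1,[3446,7672],[]),(1,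[7675],[]),(1,[7677,7574],[]),(0,[],[]),(0,[],[]),(0,[],[]),(0,[],[]),(0,[],[]),(0,[],[]),(0,[],[]),(0,[],[]),(0,[],[]),(0,[],[]),(0,[],[]),(0,[],[]),(0,[],[]),(0,[],[]),(7,[498,500,24,26,28,1242,1244,7682,7684,7686,7688,7690,7692,7694,7696,7698,7700,7702,7704,7706],[727,1342,6143]),(0,[],[]),(0,[],[]),(4,[513,98,1150,1438,5114,7710,7712],[727,1342,6143,6118]),(0,[],[]),(0,[],[]),(0,[],[]),(0,[],[]),(6,[498,1372,1327,1432,1345,6116,6118,7716,7718,7720,7722],[727,1342,6143,7709]),(3,[1244,7682,7684],[1711,1793,2169]),(1,[7726],[]),(1,[7729,7685],[]),(2,[7710],[]),(2,[7716],[7715]),(1,[7734],[]),(1,[7737,7718],[]),(2,[7680],[]),(0,[],[]),(0,[],[]),(0,[],[]),(0,[],[]),(0,[],[]),(0,[],[]),(0,[],[]),(0,[],[]),(0,[],[]),(0,[],[]),(0,[],[]),(0,[],[]),(7,[500,24,195,192,146,1540,1542,7742,7744,7746,7748,7750,7752,7754,7756,7758,7760,7762,7764],[1321,1319,1341,1339]),(0,[],[]),(0,[],[]),(0,[],[]),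(4,[499,890,725,1589,1489,7768,7770,7772],[1321,1319,1341]),(0,[],[]),(0,[],[]),(0,[],[]),(0,[],[]),(0,[],[]),(8,[888,933,1161,694,696,7655,7663,6980,6941,1273,7778,7780,7782,7784],[687,657,603,54,11,9,247,58,237,77,75,747,1375,1236,5490,5541,3509,3507,3981,3979,3977]),(2,[7778],[]),(2,[7776],[]),(2,[],[7787]),(2,[7762],[]),(0,[],[]),(0,[],[]),(0,[],[]),(0,[],[]),(0,[],[]),(0,[],[]),(0,[],[]),(0,[],[]),(0,[],[]),(0,[],[]),(0,[],[]),(0,[],[]),(0,[],[]),(2,[7804],[]),(2,[7812],[]),(5,[7811,7809,7807,7822,7400,7345,4012,3161,796,798,760,889,688,2700,2702,6992,6994,6996,6998],[7825]),(2,[7816],[]),(5,[7818,7820],[7817,7815,7827,7027,7023,6601,4185,4183,2408,2410,2647,4219,4317,2195,2193,2191,2189,5901]),(3,[7818,7820,7830,5814,5816],[]),(0,[],[]),(7,[1160,932,889,886,447,728,730,732,734,736,738,3306,5661,5659,5669,1466,1468,1470,1472,1474,7834],[895,1164]),(0,[],[]),(0,[],[]),(0,[],[]),(0,[],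[]),(4,[693,7008,7010,7796,7838,7840,7842,7844],[895,1164,7837]),(0,[],[]),(0,[],[]),(0,[],[]),(0,[],[]),(0,[],[]),(0,[],[]),(0,[],[]),(8,[693,691,689,886,447,681,378,4624,773,4612,5064,5017,5015,5013,5375,5211,2894,5206,2972,6764,6753,7848,7850,7852,7854,7856,7858,7860],[895,1164,7837,7847,7845,7843,7841]),(0,[],[]),(0,[],[]),(0,[],[]),(0,[],[]),(7,[696,7655,7663,6980,6974,3448,7864,7866,7868,7870],[695,693,7021,7025,6785,6855,4577,5219,2897,2736,2738,2740,2899]),(0,[],[]),(0,[],[]),(0,[],[]),(2,[7874],[7837]),(1,[7880],[]),(1,[7883,7875],[]),(3,[958,6928],[2862,2745,7873]),(3,[7864,7866,7868],[3450,3452,3454]),(1,[7888],[]),(1,[7891,7870],[]),(1,[3457,7892],[]),(1,[7895],[]),(1,[7897,7872],[]),(1,[3459,7898],[]),(1,[7897,7887],[]),(1,[7900],[]),(1,[7905,3460],[]),(1,[2899,7906],[]),(1,[7905,3459],[]),(1,[7909],[]),(1,[7913,3462],[]),(1,[2740,7914],[]),(1,[7917],[]),(1,[7919,3464],[]),(1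,[2738,7920],[]),(1,[7923],[]),(1,[7925,3466],[]),(1,[7925,3705],[]),(2,[7852],[]),(2,[7858],[]),(0,[],[]),(0,[],[]),(0,[],[]),(0,[],[]),(0,[],[]),(0,[],[]),(0,[],[]),(0,[],[]),(0,[],[]),(0,[],[]),(0,[],[]),(0,[],[]),(0,[],[]),(0,[],[]),(0,[],[]),(0,[],[]),(0,[],[]),(7,[7655,7663,6944,1168,921,7934,7936,7938,7940,7942,7944,7946,7948,7950,7952,7954,7956,7958,7960,7962,7964,7966],[897]),(0,[],[]),(0,[],[]),(4,[697,894,1160,5060,7139,7156,7970,7972],[897,7969,7967]),(0,[],[]),(0,[],[]),(0,[],[]),(0,[],[]),(0,[],[]),(0,[],[]),(0,[],[]),(0,[],[]),(6,[7655,7648,7563,7976,7978,7980,7982,7984,7986,7988,7990],[897,7969,7967,7965]),(0,[],[]),(0,[],[]),(0,[],[])]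

theorem ok15 : data.stepsOK st15 3750 = true := by decide +kernel

end

end Mem
end HN
end H39
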