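import Cfsg.Agent.H39.HN.Mem.Data

/-!
Steps of a derivation (generated data).
-/

set_option autoImplicit false
set_option maxRecDepth 100000
set_option linter.all false
set_option Elab.async false

namespace H39
namespace HN
namespace Mem

open H93.CosetI

noncomputable section

def st16 : List Step := [(0,[],[]),(0,[],[]),(0,[],[]),(0,[],[]),(0,[],[]),(0,[],[]),(0,[],[]),(0,[],[]),(5,[7655,7663,6944,1168,921,919,6972,7994,7996,7998,8000,8002,8004,8006,8008,8010,8012,8014],[897,7969]),(0,[],[]),(0,[],[]),(4,[7969,8018,8020],[699,697,695,1160,4989,7139,7137,7970]),(3,[700,702,704,7212],[7969,8017]),(1,[8025],[]),(1,[8027,8015],[]),(1,[7260,8028],[]),(1,[8027,8016],[]),(1,[8031],[]),(1,[8035,8013],[]),(1,[7217,8036],[]),(1,[8039],[]),(1,[8041,8011],[]),(1,[7206,8042],[]),(1,[8045],[]),(1,[8047,8009],[]),(1,[7204,8048],[]),(1,[8051],[]),(1,[8053,8007],[]),(2,[7934],[]),(2,[7942],[]),(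2,[],[7993]),(2,[7966,8018],[]),(1,[8062],[]),(1,[8065,8019],[]),(1,[8065,8020],[]),(1,[7974,8068],[]),(1,[8071],[]),(1,[8073,8022],[]),(2,[8000],[]),(0,[],[]),(0,[],[]),(0,[],[]),(0,[],[]),(0,[],[]),(0,[],[]),(0,[],[]),(0,[],[]),(0,[],[]),(0,[],[]),(0,[],[]),(0,[],[]),(0,[],[]),(0,[],[]),(0,[],[]),(0,[],[]),(0,[],[]),(7,[702,704,7212,7214,8078,8080,8082,8084,8086,8088,8090,8092,8094,8096,8098,8100,8102,8104,8106,8108,8110],[7307,7305]),(0,[],[]),(0,[],[]),(0,[],[]),(0,[],[]),(4,[701,896,7655,7648,8114,8116,8118,8120],[7307,7305,8113]),(0,[],[]),(0,[],[]),(0,[],[]),(0,[],[]),(0,[],[]),(0,[],[]),(0,[],[]),(0,[],[]),(0,[],[]),(0,[],[]),(0,[],[]),(0,[],[]),(0,[],[]),(0,[],[]),(0,[],[]),(0,[],[]),(0,[],[]),(0,[],[]),(0,[],[]),(0,[],[]),(0,[],[]),(0,[],[]),(0,[],[]),(8,[701,7969,8033,7214,8078,8124,8126,8128,8130,8132,8134,8136,8138,8140,8142,8144,8146,8148,8150,8152,8154,8156,8158,8160,8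162,8164,8166,8168],[7307,7305,8113,8123,8121,8119,8117]),(0,[],[]),(0,[],[]),(0,[],[]),(0,[],[]),(0,[],[]),(0,[],[]),(0,[],[]),(0,[],[]),(0,[],[]),(0,[],[]),(0,[],[]),(0,[],[]),(0,[],[]),(7,[704,7212,8032,8067,7975,8074,8172,8174,8176,8178,8180,8182,8184,8186,8188,8190,8192,8194,8196],[5577,5575,5573,5571]),(0,[],[]),(0,[],[]),(0,[],[]),(0,[],[]),(4,[703,7402,7800,7802,8200,8202,8204,8206],[5577,5575,5573]),(8,[731,4670,6987,7556],[4321,4136,5355,5288,4441,3047,877,811,121,871,2288,3100,4561,4442,4444,4446,4473,733,731,729,446,887,688,690,692,895,696,7655,7565,8114,8171,8169]),(1,[8211],[]),(1,[8213,8168],[]),(0,[],[]),(8,[709,3839,3849,3076,3078,3080,4907,2996,1031,1415,1268,3444,3446,6975,6942,6944,1168,921,919,6972,6963,8216],[901,801,633,416,635,7211,7209,7207,7205,8054,8005,8003,8001]),(0,[],[]),(0,[],[]),(0,[],[]),(0,[],[]),(0,[],[]),(8,[801,413,58,255,59,412,800,900,709,3839,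6478,7173,7171,7169,7254,4399,1594,5212,5117,7710,8220,8222,8224,8226,8228],[711,709,707,7212,7261,7216,7259,7251,7253,4015]),(5,[3164,4482,4399,1594,5212,5117,7710,7712,7738],[913,3160,3011,635,7211,7251,7253,4015,8231,8229,8227]),(3,[3952,7264,7266],[8231,8229]),(2,[8226],[]),(7,[8225,8223,8221,7732,5115,1592,1018,1450,1578,104,2542,2404,4452,5042,5044,2412,2414,2416,2418,2420],[8237,8235,7465,7270]),(1,[8239],[]),(1,[8241,7271],[]),(0,[],[]),(0,[],[]),(0,[],[]),(0,[],[]),(6,[716,718,1322,1324,4030,4034,4036,8244,8246,8248,8250],[3393,3182,5579,5583]),(0,[],[]),(2,[8244],[]),(2,[],[8253]),(0,[],[]),(0,[],[]),(0,[],[]),(0,[],[]),(0,[],[]),(0,[],[]),(0,[],[]),(0,[],[]),(0,[],[]),(0,[],[]),(0,[],[]),(0,[],[]),(7,[732,734,6984,7556,8214,8262,8264,8266,8268,8270,8272,8274,8276,8278,8280,8282],[4321,4136,5355,5287,5285,4447,6357]),(0,[],[]),(0,[],[]),(0,[],[]),(0,[],[]),(0,[],[]),(0,[],[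]),(0,[],[]),(0,[],[]),(6,[732,4472,5284,8286,8288,8290,8292,8294,8296,8298,8300],[4321,4136,5355,5287]),(4,[3326,2072,2074,2810,2812],[737,735,4449,5284,8303,8301,8299]),(1,[8305],[]),(1,[8307,8298],[]),(2,[8286],[8303]),(1,[8311],[]),(1,[8313,8302],[]),(1,[8313,8301],[]),(0,[],[]),(0,[],[]),(0,[],[]),(0,[],[]),(6,[734,736,738,3306,5661,8318,8320,8322,8324],[4449,4447,6357,8285,8283,8281]),(0,[],[]),(0,[],[]),(2,[8318],[]),(2,[],[8327]),(2,[8322],[]),(0,[],[]),(8,[3326,2071,2069,1596,1578,103,101,280,97,194,26,1533,1575,1577,34,36,38,40,42,2474,2689,2779,2935,2998,8338],[737,735,4449,5284,8315,8316,8309,2814,2816,2905]),(0,[],[]),(0,[],[]),(0,[],[]),(0,[],[]),(0,[],[]),(0,[],[]),(0,[],[]),(0,[],[]),(0,[],[]),(0,[],[]),(0,[],[]),(0,[],[]),(0,[],[]),(0,[],[]),(0,[],[]),(0,[],[]),(7,[740,3298,2068,3894,3251,8342,8344,8346,8348,8350,8352,8354,8356,8358,8360,8362,8364,8366,8368,8370,8372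],[3319,1460]),(0,[],[]),(0,[],[]),(6,[740,742,744,1234,1236,1391,1216,5484,5477,8376,8378],[3319,1460,8375,8373]),(0,[],[]),(0,[],[]),(0,[],[]),(0,[],[]),(0,[],[]),(0,[],[]),(0,[],[]),(0,[],[]),(0,[],[]),(0,[],[]),(0,[],[]),(5,[740,3298,2068,3894,3251,3249,8382,8384,8386,8388,8390,8392,8394,8396,8398,8400,8402],[3319,1460,1462]),(4,[1033,2936,2938,4896,3246,8382,8384],[1205,1356,3583,3518,3717]),(1,[8406],[]),(1,[8409,8386],[]),(1,[3523,8410],[]),(1,[8409,8385],[]),(1,[8413],[]),(1,[8417,8388],[]),(4,[1356,3516,3518,3520,8414],[1035,1033,2997,2938,4898,3246]),(2,[],[8375]),(2,[],[8405]),(2,[8376],[]),(2,[],[8381]),(2,[8390],[]),(2,[8396],[]),(0,[],[]),(0,[],[]),(0,[],[]),(0,[],[]),(0,[],[]),(4,[741,3306,5661,8318,8440,8442],[907,1291,1289,3720,3933]),(0,[],[]),(0,[],[]),(0,[],[]),(0,[],[]),(0,[],[]),(0,[],[]),(0,[],[]),(0,[],[]),(0,[],[]),(8,[741,739,3326,2072,2074,2076,2078,2080,20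85,1619,1662,2464,2519,2639,1670,1672,1426,2780,2782,8446,8448,8450,8452,8454,8456,8458,8460,8462],[907,1291,1289,3720,3933,8445,8443]),(4,[1291,1422,3720,3722,8445],[743,741,3319,5661,8333,8440]),(0,[],[]),(0,[],[]),(0,[],[]),(0,[],[]),(0,[],[]),(0,[],[]),(0,[],[]),(0,[],[]),(0,[],[]),(0,[],[]),(0,[],[]),(0,[],[]),(8,[1291,3293,3229,76,236,59,412,414,758,799,7154,7151,7149,7147,7158,7462,8468,8470,8472,8474,8476,8478,8480,8482,8484,8486,8488,8490],[743,741,3319,5661,8333,8440,8467]),(7,[2858,2752,2691,1170,6212,6216,6218,6220,6222,6224,6226,3934],[1173,2862,3789,3787,3785,3783,3781,3737,3933,8445,8493,8491]),(1,[8495],[]),(1,[8497,8490],[])]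

theorem ok16 : data.stepsOK st16 4000 = true := by decide +kernel

def st17 : List Step := [(2,[8446],[]),(3,[8434,8436,8438],[2812,2814,2816]),(1,[8502],[]),(1,[8505,8439],[]),(2,[8454],[]),(2,[8460],[]),(0,[],[]),(0,[],[]),(0,[],[]),(0,[],[]),(0,[],[]),(0,[],[]),(0,[],[]),(0,[],[]),(5,[746,74,3228,3230,3790,7124,8512,8514,8516,8518,8520,8522,8524,8526],[1375,3515,3513,5543,6035,6033]),(2,[8512],[]),(2,[8520],[]),(2,[8526],[]),(0,[],[]),(0,[],[]),(0,[],[]),(0,[],[]),(0,[],[]),(7,[754,3046,3101,2134,5268,5272,2150,5214,5110,7114,7116,7118,7120,7122,8542,8544],[1167,916,6965,6963,8216,8218,8077]),(0,[],[]),(0,[],[]),(0,[],[]),(0,[],[]),(0,[],[]),(0,[],[]),(0,[],[]),(0,[],[]),(0,[],[]),(0,[],[]),(5,[754,3046,3101,2134,5268,5270,8548,8550,8552,8554,8556,8558,8560,8562,8564,8566],[1167,916,918,8057]),(3,[7936,7938,7940],[8569,8567,8565]),(1,[8571],[]),(1,[8573,8563],[]),(1,[8058,8574],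[]),(1,[8573,8564],[]),(1,[8577],[]),(1,[8581,8561],[]),(2,[8544],[]),(0,[],[]),(0,[],[]),(0,[],[]),(2,[8590],[]),(0,[],[]),(0,[],[]),(0,[],[]),(0,[],[]),(0,[],[]),(0,[],[]),(0,[],[]),(0,[],[]),(7,[889,688,690,7008,7010,7796,7798,8594,8596,8598,8600,8602,8604,8606,8608],[761,799,7153,7151,7149,7147,7145,7143]),(2,[],[8611]),(3,[7798,8594,8596],[7838,7863,7861]),(1,[8614],[]),(1,[8617,8598],[]),(1,[7933,8618],[]),(1,[8621],[]),(1,[8623,8600],[]),(2,[8602],[]),(0,[],[]),(0,[],[]),(0,[],[]),(0,[],[]),(0,[],[]),(0,[],[]),(0,[],[]),(0,[],[]),(0,[],[]),(0,[],[]),(0,[],[]),(0,[],[]),(0,[],[]),(0,[],[]),(0,[],[]),(7,[785,783,3969,5456,6062,6064,6066,8630,8632,8634,8636,8638,8640,8642,8644,8646,8648,8650,8652,8654,8656],[6139,6137]),(0,[],[]),(0,[],[]),(4,[786,788,790,6296,7049,7032,8660,8662],[6139,6137,8659]),(0,[],[]),(0,[],[]),(8,[786,3964,3966,5456,6062,6144,5448,6204,6183,6181,6206,8666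,8668],[6139,6137,8659,8665,8663,8661,7033,7031,7029,6365,5753,4145,4143,4141,4139,4137,4135,731,4670,3027,3025,6203]),(2,[8628],[]),(0,[],[]),(4,[1449,1594,5212,5118,5120],[789,3964,7791,8254,8673,8674]),(0,[],[]),(0,[],[]),(8,[1449,4398,4483,3018,3020,3022,3024,3026,6987,6985,736,3326,2071,2069,1596,1578,104,2542,2403,4914,5155,5229,4925,5086,8680],[789,3964,7791,8254,8673,8674,8677,5122,5124,5259]),(3,[8680,8682,5128],[4958,4960,6010]),(1,[8685],[]),(1,[8687,6012],[]),(1,[5131,8688],[]),(1,[8691],[]),(1,[8693,5975],[]),(1,[5133,8694],[]),(1,[8697],[]),(1,[8699,5973],[]),(1,[5135,8700],[]),(1,[8703],[]),(1,[8705,6055],[]),(2,[8678],[]),(0,[],[]),(0,[],[]),(0,[],[]),(0,[],[]),(0,[],[]),(0,[],[]),(0,[],[]),(0,[],[]),(0,[],[]),(7,[792,3164,4482,7166,7168,8710,8712,8714,8716,8718,8720,8722,8724,8726],[6355,7049,7051,7034,7036,7038,7053,7091,7093]),(0,[],[]),(0,[],[]),(0,[],[]),(0,[],[]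),(4,[793,6296,6298,8678,8734,8736],[913,3160,4013,3972,7257]),(4,[3160,3970,3972,7218,8739],[795,793,6355,6298,8709,8734]),(0,[],[]),(0,[],[]),(0,[],[]),(0,[],[]),(8,[3160,3011,417,632,800,712,239,274,75,747,1234,3515,3513,3511,3712,5990,5988,3814,4010,7528,7523,7521,7519,7532,8742,8744,8746,8748],[795,793,6355,6298,8709,8734,8741]),(0,[],[]),(4,[797,912,3164,3018,4486,8328,8330,8752],[7153,7151,7493]),(3,[7220,8586,8588],[8739,8751,8749]),(1,[8757],[]),(1,[8759,8747],[]),(1,[8592,8760],[]),(1,[8759,8748],[]),(1,[8763],[]),(1,[8767,8745],[]),(0,[],[]),(7,[6953,6988,6990,922,924,7885,7847,8770],[915,753,2280,2127,2125,2123,1621,1619,1911,2464,2519,2639,1915,2642,1603]),(0,[],[]),(0,[],[]),(0,[],[]),(0,[],[]),(0,[],[]),(0,[],[]),(0,[],[]),(5,[2289,750,752,914,6953,6988,8774,8776,8778,8780,8782],[2383,2136,2138,7047,7045,7043,7091,7093,8729,8727]),(1,[8788],[]),(1,[8791,8783],[]),(1,[8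791,8784],[]),(1,[8724,8794],[]),(1,[8797],[]),(1,[8799,8786],[]),(2,[8774],[]),(3,[7062],[8729,8727,8725,8800]),(0,[],[]),(0,[],[]),(0,[],[]),(0,[],[]),(0,[],[]),(0,[],[]),(0,[],[]),(0,[],[]),(0,[],[]),(0,[],[]),(0,[],[]),(0,[],[]),(0,[],[]),(0,[],[]),(7,[919,917,6953,6982,8536,8538,8540,8806,8808,8810,8812,8814,8816,8818,8820,8822,8824,8826,8828,8830,8832],[8057,8569]),(0,[],[]),(4,[920,922,924,7885,7835,1476,8260,8836],[8057,8569,8835]),(2,[8836],[]),(4,[8261,1604,7834,7836,925,1168,921,7934,8569],[8841,8838]),(0,[],[]),(0,[],[]),(0,[],[]),(0,[],[]),(0,[],[]),(0,[],[]),(0,[],[]),(0,[],[]),(0,[],[]),(0,[],[]),(0,[],[]),(0,[],[]),(0,[],[]),(7,[924,1165,696,698,700,7402,7800,8844,8846,8848,8850,8852,8854,8856,8858,8860,8862,8864,8866,8868],[923,6991,8803]),(0,[],[]),(0,[],[]),(8,[925,6945,7662,7648,7563,7561,7559,7620,6985,735,4472,4447,4445,4443,4560,3101,2134,5268,5270,8548,8872,88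74],[7837,7835,1605,8260,8841,8838,8843,8567,8579,8059,8582,8559,8557]),(3,[8776,8778,8780],[8871,8869,8867]),(1,[8879],[]),(1,[8881,8866],[]),(0,[],[]),(0,[],[]),(0,[],[]),(0,[],[]),(0,[],[]),(7,[936,300,843,290,129,5350,5408,8884,8886,8888,8890,8892],[1381,1386,1255,1253,3819,4006,6057,8529,8527,8525,8523]),(0,[],[]),(0,[],[]),(0,[],[]),(0,[],[]),(5,[936,300,843,290,129,127,5348,5325,8896,8898,8900,8902],[1381,1386,1229,3779,3777,3775,5388,5421]),(3,[5314,5316,5318,5325,8896,8898],[]),(1,[8906],[]),(1,[8909,8900],[]),(1,[5387,8910],[]),(1,[8909,8899],[]),(1,[8913],[]),(1,[8917,8902],[]),(0,[],[]),(0,[],[]),(0,[],[]),(0,[],[]),(0,[],[]),(0,[],[]),(0,[],[]),(0,[],[]),(0,[],[]),(7,[1073,40,42,2474,2476,2478,2480,6140,6103,2906,8920,8922,8924,8926,8928,8930,8932,8934,8936],[1393,2203,2225,2223]),(0,[],[]),(0,[],[]),(4,[939,410,992,1040,5789,5902,8940,8942],[1393,2203,2225]),(0,[],[]),(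0,[],[]),(8,[939,316,45,2474,2476,7096,7113,2998,2931,6201,6210,6197,6195,6193,6208,6188,4020,6386,6444,3942,8946,8948],[1393,2203,2225,8945,8943,8941,5903,5787,5847,1209,3703,2191,3931]),(2,[8922],[]),(2,[8930],[]),(2,[8934],[]),(0,[],[]),(0,[],[]),(5,[950,952,954,956,958,6928,6722,8958,8960],[949,1083,359,2463,2461,2459,2457,2455,2453,6733,6731]),(0,[],[]),(0,[],[]),(0,[],[]),(0,[],[]),(0,[],[]),(0,[],[]),(0,[],[]),(0,[],[]),(0,[],[]),(0,[],[]),(0,[],[]),(0,[],[]),(0,[],[]),(0,[],[]),(0,[],[]),(0,[],[]),(0,[],[]),(0,[],[])]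

theorem ok17 : data.stepsOK st17 4250 = true := by decide +kernel

def st18 : List Step := [(0,[],[]),(0,[],[]),(0,[],[]),(0,[],[]),(7,[6928,7903,7911,2898,2741,8974,8976,8978,8980,8982,8984,8986,8988,8990,8992,8994,8996,8998,9000,9002,9004,9006],[1175]),(0,[],[]),(0,[],[]),(0,[],[]),(4,[959,1172,2858,6618,6620,9010,9012,9014],[1175,9009,9007]),(0,[],[]),(0,[],[]),(0,[],[]),(0,[],[]),(0,[],[]),(0,[],[]),(0,[],[]),(0,[],[]),(6,[6928,6722,8958,9018,9020,9022,9024,9026,9028,9030,9032],[1175,9009,9007,9005]),(0,[],[]),(0,[],[]),(0,[],[]),(0,[],[]),(0,[],[]),(0,[],[]),(0,[],[]),(0,[],[]),(0,[],[]),(0,[],[]),(0,[],[]),(5,[6928,7903,7911,2898,2741,2739,7926,9036,9038,9040,9042,9044,9046,9048,9050,9052,9054,9056],[1175,9009]),(3,[962,964,966,1193],[9009,9059]),(1,[9061],[]),(1,[9063,9057],[]),(1,[1191,9064],[]),(1,[9063,9058],[]),(1,[9067],[]),(1,[9071,9055],[]),(1,[1193,9072],[]),(1,[9075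],[]),(1,[9077,9053],[]),(1,[966,9078],[]),(1,[9081],[]),(1,[9083,9051],[]),(1,[964,9084],[]),(1,[9087],[]),(1,[9089,9049],[]),(1,[3480,9090],[]),(1,[9093],[]),(1,[9095,9047],[]),(1,[3478,9096],[]),(1,[9099],[]),(1,[9101,9045],[]),(1,[3476,9102],[]),(1,[9105],[]),(1,[9107,9043],[]),(1,[3474,9108],[]),(1,[9111],[]),(1,[9113,9041],[]),(2,[9010],[]),(2,[8998],[]),(2,[],[9035]),(2,[9006],[]),(2,[9014],[]),(0,[],[]),(0,[],[]),(0,[],[]),(0,[],[]),(0,[],[]),(0,[],[]),(0,[],[]),(0,[],[]),(0,[],[]),(0,[],[]),(0,[],[]),(0,[],[]),(0,[],[]),(0,[],[]),(8,[9009,9069,1192,968,970,70,1292,3516,3580,1253,1408,1249,1950,2007,9126,9128,9130,9132,9134,9136,9138,9140,9142,9144,9146,9148,9150,9152],[961,959,957,2858,6655,6620,9117]),(0,[],[]),(0,[],[]),(0,[],[]),(0,[],[]),(0,[],[]),(0,[],[]),(0,[],[]),(0,[],[]),(0,[],[]),(0,[],[]),(0,[],[]),(0,[],[]),(0,[],[]),(0,[],[]),(7,[964,966,1193,1191,9068,9122,901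7,9156,9158,9160,9162,9164,9166,9168,9170,9172,9174,9176,9178,9180,9182],[3481,3479]),(0,[],[]),(0,[],[]),(0,[],[]),(0,[],[]),(0,[],[]),(0,[],[]),(0,[],[]),(0,[],[]),(6,[964,1176,6246,9186,9188,9190,9192,9194,9196,9198,9200],[3481,3479,9185,9183]),(2,[9126],[]),(5,[2006,1951,1248,1250,1252,3581,3582,1357,1036,1038,1183,1193,9068,9122,9017,9156,9158,9160,9162],[9205]),(2,[9186],[]),(3,[9000,9002,9004,9017,9156,9158],[]),(1,[9210],[]),(1,[9213,9160],[]),(1,[9119,9214],[]),(1,[9213,9159],[]),(1,[9217],[]),(1,[9221,9162],[]),(2,[9130],[]),(2,[9136],[]),(2,[9144],[]),(2,[9150],[]),(2,[9172],[]),(2,[9176],[]),(2,[9190],[]),(0,[],[]),(0,[],[]),(0,[],[]),(0,[],[]),(0,[],[]),(0,[],[]),(0,[],[]),(0,[],[]),(0,[],[]),(0,[],[]),(0,[],[]),(7,[966,1193,9068,9122,9017,9124,9238,9240,9242,9244,9246,9248,9250,9252,9254,9256,9258],[991,989,987,985,6092,6115]),(0,[],[]),(0,[],[]),(4,[965,3670,8964,8966,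9262,9264],[991,989,987,6282,6295]),(0,[],[]),(0,[],[]),(0,[],[]),(0,[],[]),(0,[],[]),(0,[],[]),(0,[],[]),(0,[],[]),(0,[],[]),(0,[],[]),(0,[],[]),(0,[],[]),(0,[],[]),(0,[],[]),(0,[],[]),(0,[],[]),(0,[],[]),(0,[],[]),(0,[],[]),(8,[965,963,9009,9122,9017,9156,9219,9118,8997,9268,9270,9272,9274,9276,9278,9280,9282,9284,9286,9288,9290,9292,9294,9296,9298,9300,9302,9304],[991,989,987,6282,6295,9267,9265]),(0,[],[]),(0,[],[]),(0,[],[]),(0,[],[]),(0,[],[]),(0,[],[]),(0,[],[]),(0,[],[]),(0,[],[]),(0,[],[]),(0,[],[]),(0,[],[]),(5,[966,1193,9068,9122,9017,9156,9308,9310,9312,9314,9316,9318,9320,9322,9324,9326,9328,9330],[991,989]),(0,[],[]),(0,[],[]),(7,[1193,9068,9008,1174,6928,6722,8958,8960,8962,6730,6732,2650,9334,9336],[1182,1039,1063,1061,1059,1057,1055,1053,2585]),(0,[],[]),(0,[],[]),(4,[967,1176,6246,9186,9340,9342],[1182,1039,1063,3482,3709]),(0,[],[]),(0,[],[]),(6,[1193,1191,9068,912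2,9017,9124,9238,9346,9348],[1182,1039,1063,1061,3963,3961]),(0,[],[]),(0,[],[]),(0,[],[]),(0,[],[]),(0,[],[]),(0,[],[]),(0,[],[]),(0,[],[]),(0,[],[]),(0,[],[]),(0,[],[]),(0,[],[]),(0,[],[]),(0,[],[]),(0,[],[]),(0,[],[]),(0,[],[]),(0,[],[]),(8,[967,965,963,1174,6928,7903,7911,2898,6770,6772,9352,9354,9356,9358,9360,9362,9364,9366,9368,9370,9372,9374,9376,9378,9380,9382,9384,9386],[1182,1039,1063,3482,3709,9345,9343]),(4,[1039,1206,3482,3484,9345],[969,967,991,6246,9209,9340]),(2,[],[9261]),(2,[9352],[]),(3,[8996,9222,9206,9128],[9268]),(3,[9012,9238,9240,9242],[9155,9153]),(1,[9398],[]),(1,[9401,9244],[]),(1,[9231,9402],[]),(1,[9401,9243],[]),(1,[9405],[]),(1,[9409,9246],[]),(2,[9288],[]),(2,[9296],[]),(2,[9302],[]),(2,[9322],[]),(2,[9330],[]),(2,[9360],[]),(2,[9378],[]),(2,[9384],[]),(0,[],[]),(0,[],[]),(0,[],[]),(0,[],[]),(0,[],[]),(0,[],[]),(0,[],[]),(0,[],[]),(0,[],[]),(0,[],[]),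(7,[970,70,1292,3516,3518,3520,3522,8418,9428,9430,9432,9434,9436,9438,9440,9442,9444,9446],[969,967,991,989,9333]),(0,[],[]),(0,[],[]),(0,[],[]),(0,[],[]),(0,[],[]),(0,[],[]),(0,[],[]),(0,[],[]),(8,[1039,1037,1356,3516,3518,3982,4007,3944,3815,3813,3942,8946,8948,8950,3930,2190,2192,2194,4316,5904,9450,9452,9454,9456,9458,9460,9462,9464],[969,967,991,6246,9209,9340,9391]),(0,[],[]),(0,[],[]),(0,[],[]),(7,[9068,9008,962,3670,8964,8966,8968,9470,9472],[1190,1192,1182,1039,1037,1356,3583,3580,1405,1229,1401,1219,5479,6966]),(0,[],[]),(0,[],[]),(8,[1192,967,965,3670,8964,9476,9478],[1190,1192,1182,970,69,17,1,2,86,167,165,163,2273,5156,6186,6188,3993,3991,4011,3945,4006,6057,6032,6034,5498,5563,5502,5504]),(0,[],[]),(0,[],[]),(0,[],[]),(0,[],[]),(0,[],[]),(5,[9068,9008,962,3670,8964,9476,9482,9484,9486,9488,9490],[1190,1192,967,991,989,9333,9449,9447,9445]),(3,[988,6246,6248],[9333,9449]),(5,[3700,2188,2190,2192,2194,4316,5904,5906,5908,5910,5912,5914],[1211,3696,3688,3709,9345,9467,9465,9463,9461]),(1,[9497],[])]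

theorem ok18 : data.stepsOK st18 4500 = true := by decide +kernel

def st19 : List Step := [(1,[9499,9460],[]),(8,[1386,1229,1401,1220,1369,1369,1369,1399,1219,1217,1402,1237,3515,3513,5532,5498,5500,5502,5504,9468],[1213,935,293,239,77,75,73,71,971,969,967,965,3481,8964,9476,9478]),(1,[9503],[]),(1,[9505,9480],[]),(1,[9505,9479],[]),(3,[3486,3488,3490],[9345,9467,9465]),(1,[9511],[]),(1,[9513,9463],[]),(1,[3710,9514],[]),(1,[9513,9464],[]),(1,[9517],[]),(1,[9521,9501],[]),(3,[8968,9470,9472],[9262,9307,9305]),(1,[9524],[]),(1,[9527,9474],[]),(1,[9417,9528],[]),(1,[9527,9473],[]),(1,[9530],[]),(1,[9535,9417],[]),(1,[9535,9301],[]),(1,[6969,9538],[]),(1,[9541],[]),(1,[9543,9299],[]),(1,[6971,9544],[]),(1,[9547],[]),(1,[9549,9414],[]),(1,[5489,9550],[]),(1,[9553],[]),(1,[9555,9295],[]),(1,[5468,9556],[]),(1,[9559],[]),(1,[9561,9293],[]),(1,[5466,9562],[]),(1,[9565],[]),(1,[9567,9291]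,[]),(1,[7535,9568],[]),(1,[9571],[]),(1,[9573,9412],[]),(1,[7537,9574],[]),(1,[9577],[]),(1,[9579,9287],[]),(3,[9284,9581,7538,7540,7542],[]),(2,[9434],[]),(2,[9442],[]),(2,[9446],[]),(2,[9490],[]),(4,[2967,4509,5026,5028],[5275,7547,7545,9582,9283,9281,9279,9277]),(1,[9593],[]),(1,[9595,9275],[]),(1,[5031,9596],[]),(1,[9599],[]),(1,[9601,9273],[]),(0,[],[]),(0,[],[]),(0,[],[]),(0,[],[]),(0,[],[]),(0,[],[]),(0,[],[]),(0,[],[]),(0,[],[]),(0,[],[]),(0,[],[]),(7,[6282,6284,6112,9392,9604,9606,9608,9610,9612,9614,9616,9618,9620,9622,9624],[1197,9333,9331,9329,9327,9325,9323,9321]),(0,[],[]),(0,[],[]),(0,[],[]),(0,[],[]),(0,[],[]),(0,[],[]),(0,[],[]),(0,[],[]),(0,[],[]),(5,[6282,6284,6112,9392,9604,9628,9630,9632,9634,9636,9638,9640,9642,9644],[1197,9333,9449,9447,9445,9493]),(2,[],[9627]),(2,[9638],[]),(2,[9644],[]),(0,[],[]),(0,[],[]),(0,[],[]),(0,[],[]),(0,[],[]),(5,[6246,6248,9494,95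88,9654,9656],[1177,965,963,961,959,2862,2745,2743,6770,6772,9395,9354,9356,9358,9423]),(1,[9664],[]),(1,[9667,9658],[]),(1,[9363,9668],[]),(1,[9667,9657],[]),(1,[9671],[]),(1,[9675,9660],[]),(1,[9365,9676],[]),(1,[9679],[]),(1,[9681,9662],[]),(3,[9362],[9672,9655,9445,9493,9647]),(1,[9685],[]),(1,[9687,9652],[]),(1,[9365,9688],[]),(1,[9691],[]),(1,[9693,9643],[]),(1,[9683,9694],[]),(1,[9696],[]),(1,[9699,9683],[]),(0,[],[]),(0,[],[]),(0,[],[]),(0,[],[]),(0,[],[]),(0,[],[]),(0,[],[]),(0,[],[]),(0,[],[]),(0,[],[]),(0,[],[]),(7,[1450,1578,103,4100,4089,4124,4382,5672,5618,4340,9702,9704,9706,9708,9710,9712,9714,9716,9718,9720,9722],[1201,1022]),(0,[],[]),(0,[],[]),(0,[],[]),(4,[1019,1438,1440,4026,7160,9726,9728,9730],[1201,1022,9725]),(0,[],[]),(0,[],[]),(0,[],[]),(0,[],[]),(0,[],[]),(0,[],[]),(0,[],[]),(0,[],[]),(0,[],[]),(0,[],[]),(0,[],[]),(5,[1450,1578,103,4100,4089,5100,9734,9736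,9738,9740,9742,9744,9746,9748,9750,9752,9754],[1201,1022,1024]),(2,[],[9725]),(2,[],[9757]),(4,[1026,1028,1030,2936,4906,3082,3084,5064,5017,5096],[9757,9755]),(1,[9763],[]),(1,[9765,9754],[]),(1,[9765,9753],[]),(1,[5038,9768],[]),(1,[9771],[]),(1,[9773,9751],[]),(2,[9734],[]),(2,[9730],[]),(2,[9742],[]),(2,[9748],[]),(0,[],[]),(0,[],[]),(0,[],[]),(0,[],[]),(2,[9784],[]),(0,[],[]),(0,[],[]),(0,[],[]),(0,[],[]),(0,[],[]),(0,[],[]),(8,[1026,1497,1495,4172,4174,4176,4178,4180,9794,9796,9798,9800,9802,9804],[9757,9767,5097,5016,5065,3085,3083,3081,3079,3077,3075,3073,3417,3208,3210,3212,3419,3415,1311,1309,1307]),(0,[],[]),(4,[1497,4220,4222,9788,9808],[1203,1415,1417,1270,7789,7780]),(0,[],[]),(0,[],[]),(0,[],[]),(0,[],[]),(0,[],[]),(0,[],[]),(0,[],[]),(0,[],[]),(0,[],[]),(0,[],[]),(0,[],[]),(0,[],[]),(0,[],[]),(8,[1497,1495,1493,1200,1450,1578,103,4100,4077,4075,4334,4241,4239,4237,43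44,9812,9814,9816,9818,9820,9822,9824,9826,9828,9830,9832,9834,9836],[1203,1415,1417,1270,7789,7780,9811]),(2,[],[9807]),(5,[4332,3534,4323,4324,1494,1496,1028,1030,1032,1360,1300,1302,1304,9840,9805,9803,9801],[4343,9794,9796]),(0,[],[]),(0,[],[]),(0,[],[]),(0,[],[]),(6,[1360,1300,1302,9844,9846,9848,9850],[1205,1356,3583,3580,1405,1229,3779,3777]),(0,[],[]),(0,[],[]),(5,[1360,1412,1266,1268,1270,1272,1274,9854,9856],[1205,1356,1293,273,747,745,1291,1289,1287,1285,1283]),(0,[],[]),(0,[],[]),(0,[],[]),(0,[],[]),(0,[],[]),(0,[],[]),(0,[],[]),(0,[],[]),(0,[],[]),(8,[1356,1293,71,258,18,20,176,276,165,163,2376,2271,2269,3995,4020,6386,6388,6390,6392,9860,9862,9864,9866,9868,9870,9872,9874,9876],[1035,1033,2997,2938,4898,3246,8421]),(4,[1219,5484,5477,8376],[1398,1368,1221,1400,3779,3777,9853]),(3,[3522,8418,9428],[8414,9879,9877]),(1,[9883],[]),(1,[9885,9876],[]),(2,[9848],[]),(0,[],[])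,(0,[],[]),(4,[1037,1204,1360,1300,2785,8446,9890,9892],[1063,1061,3963]),(0,[],[]),(0,[],[]),(0,[],[]),(0,[],[]),(5,[1038,970,70,72,74,3228,3230,3790,7124,7126,3442,6978,6796,9896,9898,9900,9902],[1063,1061,1059]),(2,[],[9905]),(2,[9896],[]),(0,[],[]),(0,[],[]),(0,[],[]),(0,[],[]),(3,[2222,8945,9910,9912,9914],[8939]),(1,[9918],[]),(1,[9921,9915],[]),(1,[8936,9922],[]),(1,[9925],[]),(1,[9927,9913],[]),(2,[9916],[]),(0,[],[]),(0,[],[]),(0,[],[]),(0,[],[]),(0,[],[]),(0,[],[]),(0,[],[]),(0,[],[]),(0,[],[]),(0,[],[]),(0,[],[]),(0,[],[]),(0,[],[]),(5,[1052,3700,2188,3802,8951,8949,9936,9938,9940,9942,9944,9946,9948,9950,9952,9954,9956],[2585,9339,9337]),(0,[],[]),(0,[],[]),(0,[],[]),(4,[1053,2442,2444,9916,9960,9962,9964],[1211,3696,2181,3680]),(2,[],[9967]),(2,[],[9959]),(2,[9934],[]),(2,[9944],[]),(2,[9950],[]),(2,[9962],[]),(0,[],[]),(0,[],[]),(0,[],[]),(0,[],[]),(0,[],[]),(0,[],[]),(0,[],[]),(0,[],[]),(0,[],[]),(0,[],[])]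

theorem ok19 : data.stepsOK st19 4750 = true := by decide +kernel

end

end Mem
end HN
end H39
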