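import Cfsg.Agent.H39.HN.Mem.Data

/-!
Steps of a derivation (generated data).
-/

set_option autoImplicit false
set_option maxRecDepth 100000
set_option linter.all false
set_option Elab.async false

namespace H39
namespace HN
namespace Mem

open H93.CosetI

noncomputable section

def st24 : List Step := [(1,[11803],[]),(1,[12001,3790],[]),(1,[1361,12002],[]),(1,[12001,3232],[]),(1,[1032,12006],[]),(1,[11809],[]),(1,[12011,3251],[]),(1,[2543,12012],[]),(1,[11813],[]),(1,[12017,11540],[]),(1,[100,12018],[]),(1,[11819],[]),(1,[12023,1492],[]),(1,[11634,12024],[]),(1,[12023,1022],[]),(1,[11638,12028],[]),(1,[11825],[]),(1,[12033,9156],[]),(1,[3248,12034],[]),(1,[11831],[]),(1,[12039,9470],[]),(1,[8171,12040],[]),(1,[11837],[]),(1,[12045,9484],[]),(1,[4519,12046],[]),(1,[11841],[]),(1,[12051,9506],[]),(1,[881,12052],[]),(1,[11846],[]),(1,[12057,4135],[]),(1,[12057,7014],[]),(1,[3472,12060],[]),(1,[12057,4136],[]),(1,[9115,1206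4],[]),(1,[11853],[]),(1,[12069,8958],[]),(1,[8435,12070],[]),(1,[11857],[]),(1,[12075,7911],[]),(1,[2079,12076],[]),(1,[11863],[]),(1,[12081,2260],[]),(1,[2859,12082],[]),(1,[11869],[]),(1,[12087,10170],[]),(1,[337,12088],[]),(1,[12087,10130],[]),(1,[334,12092],[]),(1,[11875],[]),(1,[12097,5475],[]),(1,[307,12098],[]),(1,[12097,5476],[]),(1,[304,12102],[]),(1,[11879],[]),(1,[12107,9852],[]),(1,[5483,12108],[]),(1,[11885],[]),(1,[12113,8612],[]),(1,[5813,12114],[]),(1,[12113,7142],[]),(1,[2189,12118],[]),(1,[11889],[]),(1,[12123,3744],[]),(1,[1050,12124],[]),(1,[11894],[]),(1,[12129,9932],[]),(1,[1280,12130],[]),(1,[12129,9903],[]),(1,[9858,12134],[]),(1,[11901],[]),(1,[12139,4910],[]),(1,[10853,12140],[]),(1,[11907],[]),(1,[12145,3500],[]),(1,[1661,12146],[]),(1,[11913],[]),(1,[12151,6758],[]),(1,[5921,12152],[]),(1,[11919],[]),(1,[12157,9232],[]),(1,[757,12158],[]),(1,[12157,10199],[]),(1,[754,12162],[]),(1,[11928],[]),(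1,[12167,9430],[]),(1,[8953,12168],[]),(1,[12167,9886],[]),(1,[10873,12172],[]),(1,[12167,9429],[]),(1,[11933],[]),(1,[12179,3962],[]),(1,[3525,12180],[]),(1,[12179,3961],[]),(1,[3522,12184],[]),(1,[11939],[]),(1,[12189,9787],[]),(1,[6265,12190],[]),(1,[11947],[]),(1,[12195,10912],[]),(1,[2467,12196],[]),(1,[11953],[]),(1,[12201,9641],[]),(1,[1304,12202],[]),(1,[11959],[]),(1,[12207,9584],[]),(1,[3417,12208],[]),(1,[11965],[]),(1,[11971],[]),(1,[12215,9321],[]),(1,[8394,12216],[]),(1,[11977],[]),(1,[12221,1216],[]),(1,[301,12222],[]),(1,[12221,1215],[]),(1,[936,12226],[]),(1,[11981],[]),(1,[12231,5568],[]),(1,[23,12232],[]),(1,[12231,5541],[]),(1,[177,12236],[]),(1,[11987],[]),(1,[12241,3535],[]),(1,[3,12242],[]),(1,[11991],[]),(1,[12247,5532],[]),(1,[5,12248],[]),(1,[11997],[]),(1,[12253,3518],[]),(1,[237,12254],[]),(1,[12253,3580],[]),(1,[239,12258],[]),(1,[12005],[]),(1,[12263,3792],[]),(1,[1301,12264],[]),(1,[12263,712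4],[]),(1,[1413,12268],[]),(1,[12009],[]),(1,[12273,3433,12272],[]),(1,[2937,12274],[]),(1,[12015],[]),(1,[12279,3249],[]),(1,[2402,12280],[]),(1,[12021],[]),(1,[12285,904],[]),(1,[281,12286],[]),(1,[12027],[]),(1,[12291,1494],[]),(1,[71,12292],[]),(1,[12030],[]),(1,[12297,1206],[]),(1,[9759,12298],[]),(1,[12297,1037],[]),(1,[1025,12302],[]),(1,[12037],[]),(1,[12307,9219],[]),(1,[3246,12308],[]),(1,[12043],[]),(1,[12313,10138],[]),(1,[8117,12314],[]),(1,[12313,9533],[]),(1,[8114,12318],[]),(1,[12048,12212],[]),(1,[12323,7614],[]),(1,[1433,12324],[]),(1,[12323,4407],[]),(1,[4031,12328],[]),(1,[12323,4519],[]),(1,[1327,12332],[]),(1,[12055],[]),(1,[12337,5506],[]),(1,[680,12338],[]),(1,[12337,5505],[]),(1,[447,12342],[]),(1,[12063],[]),(1,[12347,7680],[]),(1,[12347,7741],[]),(1,[12347,7016],[]),(1,[3470,12352],[]),(1,[12066],[]),(1,[12357,9115],[]),(1,[12073],[]),(1,[12361,8960],[]),(1,[8437,12362],[]),(1,[12079],[]),(1,[123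67,2898],[]),(1,[2081,12368],[]),(1,[12084],[]),(1,[12373,2752],[]),(1,[2263,12374],[]),(1,[12091],[]),(1,[12095],[]),(1,[12381,9888],[]),(1,[5727,12382],[]),(1,[12101],[]),(1,[12387,10250],[]),(1,[781,12388],[]),(1,[12105],[]),(1,[12393,6966],[]),(1,[872,12394],[]),(1,[12110],[]),(1,[12399,5483],[]),(1,[12399,5481],[]),(1,[3777,12402],[]),(1,[12117],[]),(1,[12407,11056],[]),(1,[5815,12408],[]),(1,[12121],[]),(1,[12413,7144],[]),(1,[3803,12414],[]),(1,[12127],[]),(1,[12419,3746],[]),(1,[1209,12420],[]),(1,[12133],[]),(1,[12425,10335],[]),(1,[1278,12426],[]),(1,[12137],[]),(1,[12431,9901],[]),(1,[9856,12432],[]),(1,[12142],[]),(1,[12437,10853],[]),(1,[12149],[]),(1,[12441,3502],[]),(1,[429,12442],[]),(1,[12155],[]),(1,[12447,6760],[]),(1,[5923,12448],[]),(1,[12161],[]),(1,[12453,9171],[]),(1,[810,12454],[]),(1,[12164,12378],[]),(1,[12459,914],[]),(1,[617,12460],[]),(1,[12459,754],[]),(1,[339,12464],[]),(1,[12459,753],[]),(1,[2553,12468],[]),(1,[12171],[]),(1,[12473,9432],[]),(1,[12175],[]),(1,[12477,9878],[]),(1,[3957,12478],[]),(1,[12182],[]),(1,[12483,3526],[]),(1,[1061,12484],[]),(1,[12187],[]),(1,[12489,12439],[]),(1,[3717,12490],[]),(1,[12193],[]),(1,[12495,9792],[]),(1,[6267,12496],[])]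

theorem ok24 : data.stepsOK st24 6000 = true := by decide +kernel

def st25 : List Step := [(1,[12199],[]),(1,[12501,10908],[]),(1,[2469,12502],[]),(1,[12205],[]),(1,[12507,9650],[]),(1,[9845,12508],[]),(1,[12211],[]),(1,[12513,12475],[]),(1,[3070,12514],[]),(1,[12219],[]),(1,[12519,9648],[]),(1,[11585,12520],[]),(1,[12225],[]),(1,[12525,1218],[]),(1,[842,12526],[]),(1,[12229],[]),(1,[12531,1213],[]),(1,[12235],[]),(1,[12535,5570],[]),(1,[25,12536],[]),(1,[12535,8199],[]),(1,[500,12540],[]),(1,[12239],[]),(1,[12545,3712],[]),(1,[277,12546],[]),(1,[12245],[]),(1,[12551,3718],[]),(1,[5,12552],[]),(1,[12551,4333],[]),(1,[87,12556],[]),(1,[12251],[]),(1,[12561,5498],[]),(1,[7,12562],[]),(1,[12561,6035],[]),(1,[207,12566],[]),(1,[12257],[]),(1,[12571,3982],[]),(1,[58,12572],[]),(1,[12261],[]),(1,[12577,1253],[]),(1,[712,12578],[]),(1,[12267],[]),(1,[12583,3794],[]),(1,[1303,12584],[]),(1,[12271],[]),(1,[12589,8512],[]),(1,[14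11,12590],[]),(1,[12276],[]),(1,[12595,2938],[]),(1,[1033,12596],[]),(1,[12283],[]),(1,[12601,8382],[]),(1,[4915,12602],[]),(1,[12601,3247],[]),(1,[2400,12606],[]),(1,[12289],[]),(1,[12611,735],[]),(1,[96,12612],[]),(1,[12295],[]),(1,[12617,4220],[]),(1,[11792,12618],[]),(1,[12617,1496],[]),(1,[11998,12622],[]),(1,[12300],[]),(1,[12627,9724],[]),(1,[12627,9733],[]),(1,[3483,12630],[]),(1,[12305],[]),(1,[12635,1204],[]),(1,[9761,12636],[]),(1,[12311],[]),(1,[12641,9118],[]),(1,[4898,12642],[]),(1,[12317],[]),(1,[12647,10073],[]),(1,[12321],[]),(1,[12651,9537],[]),(1,[7565,12652],[]),(1,[12327],[]),(1,[12657,7553],[]),(1,[1322,12658],[]),(1,[12331],[]),(1,[12663,8328],[]),(1,[4035,12664],[]),(1,[12663,4487],[]),(1,[4106,12668],[]),(1,[12335],[]),(1,[12673,3026],[]),(1,[1321,12674],[]),(1,[12673,3025],[]),(1,[1318,12678],[]),(1,[12341],[]),(1,[12683,5561],[]),(1,[627,12684],[]),(1,[12345],[]),(1,[12689,5503],[]),(1,[656,12690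],[]),(1,[12355],[]),(1,[12695,7018],[]),(1,[3468,12696],[]),(1,[12365],[]),(1,[12701,8962],[]),(1,[8506,12702],[]),(1,[12371],[]),(1,[12707,2741],[]),(1,[2083,12708],[]),(1,[12377],[]),(1,[12713,2691],[]),(1,[2265,12714],[]),(1,[12385],[]),(1,[12719,9847],[]),(1,[6088,12720],[]),(1,[12391],[]),(1,[12725,10252],[]),(1,[3968,12726],[]),(1,[12397],[]),(1,[12405],[]),(1,[12733,5422],[]),(1,[3779,12734],[]),(1,[12733,5406],[]),(1,[10043,12738],[]),(1,[12411],[]),(1,[12743,9338],[]),(1,[5817,12744],[]),(1,[12417],[]),(1,[12749,7146],[]),(1,[8950,12750],[]),(1,[12749,7225],[]),(1,[3805,12754],[]),(1,[12423],[]),(1,[12759,3748],[]),(1,[1046,12760],[]),(1,[12429],[]),(1,[12765,10333],[]),(1,[1276,12766],[]),(1,[12435],[]),(1,[12771,10012],[]),(1,[10401,12772],[]),(1,[12445],[]),(1,[12777,3504],[]),(1,[431,12778],[]),(1,[12451],[]),(1,[12783,6228],[]),(1,[5925,12784],[]),(1,[12457],[]),(1,[12789,10706],[]),(1,[123,12790],[]),(1,[12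463],[]),(1,[12795,6953],[]),(1,[334,12796],[]),(1,[12795,916],[]),(1,[3593,12800],[]),(1,[12467],[]),(1,[12805,756],[]),(1,[341,12806],[]),(1,[12805,3046],[]),(1,[1909,12810],[]),(1,[12470],[]),(1,[12815,4058],[]),(1,[2379,12816],[]),(1,[12815,2521],[]),(1,[750,12820],[]),(1,[12481],[]),(1,[12487],[]),(1,[12827,3528],[]),(1,[12629,12828],[]),(1,[12493,12570],[]),(1,[12833,4990],[]),(1,[58,12834],[]),(1,[12498],[]),(1,[12839,6268],[]),(1,[2783,12840],[]),(1,[12505],[]),(1,[12845,10910],[]),(1,[2471,12846],[]),(1,[12510],[]),(1,[12851,9845],[]),(1,[12517],[]),(1,[12855,8922],[]),(1,[711,12856],[]),(1,[12855,8921],[]),(1,[708,12860],[]),(1,[12522],[]),(1,[12865,11585],[]),(1,[12865,10877],[]),(1,[9624,12868],[]),(1,[12529],[]),(1,[12873,1220],[]),(1,[291,12874],[]),(1,[12873,1400],[]),(1,[133,12878],[]),(1,[12539],[]),(1,[12883,5572],[]),(1,[27,12884],[]),(1,[12543],[]),(1,[12889,10064],[]),(1,[1373,12890],[]),(1,[12549],[])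,(1,[12895,5990],[]),(1,[313,12896],[]),(1,[12555],[]),(1,[12901,3531],[]),(1,[207,12902],[]),(1,[12559],[]),(1,[12907,4180],[]),(1,[277,12908],[]),(1,[12565],[]),(1,[12913,5500],[]),(1,[57,12914],[]),(1,[12913,10132],[]),(1,[9,12918],[]),(1,[12569],[]),(1,[12923,10390],[]),(1,[257,12924],[]),(1,[12923,6033],[]),(1,[54,12928],[]),(1,[12575],[]),(1,[12933,6030],[]),(1,[247,12934],[]),(1,[12933,4007],[]),(1,[413,12938],[]),(1,[12581],[]),(1,[12943,1408],[]),(1,[901,12944],[]),(1,[12587],[]),(1,[12949,3796],[]),(1,[12852,12950],[]),(1,[12593],[]),(1,[12955,10055],[]),(1,[4786,12956],[]),(1,[12599],[]),(1,[12961,4898],[]),(1,[12961,2940],[]),(1,[1361,12964],[]),(1,[12604,12824],[]),(1,[12969,5155],[]),(1,[3956,12970],[]),(1,[12609],[]),(1,[12975,12963],[]),(1,[113,12976],[]),(1,[12615],[]),(1,[12981,733],[]),(1,[195,12982],[]),(1,[12621],[]),(1,[12987,4222],[]),(1,[11998,12988],[]),(1,[12625],[]),(1,[12993,1028],[]),(1,[77,12994],[]),(1,[12633],[])]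

theorem ok25 : data.stepsOK st25 6250 = true := by decide +kernel

def st26 : List Step := [(1,[12999,9778],[]),(1,[3485,13000],[]),(1,[12638],[]),(1,[13005,9756],[]),(1,[12645,12960],[]),(1,[13009,9222],[]),(1,[1361,13010],[]),(1,[12654,12730],[]),(1,[13015,7648],[]),(1,[719,13016],[]),(1,[13015,7663],[]),(1,[873,13020],[]),(1,[13015,7654],[]),(1,[716,13024],[]),(1,[12661],[]),(1,[13029,7642],[]),(1,[903,13030],[]),(1,[12667],[]),(1,[13035,8330],[]),(1,[4037,13036],[]),(1,[12671],[]),(1,[13041,3166],[]),(1,[1429,13042],[]),(1,[12677],[]),(1,[13047,4671],[]),(1,[501,13048],[]),(1,[12681],[]),(1,[13053,6170],[]),(1,[1431,13054],[]),(1,[12687],[]),(1,[13059,5417],[]),(1,[685,13060],[]),(1,[12693],[]),(1,[12699],[]),(1,[13067,4142],[]),(1,[7928,13068],[]),(1,[12705],[]),(1,[13073,6730],[]),(1,[2819,13074],[]),(1,[12711],[]),(1,[13079,2739],[]),(1,[2029,13080],[]),(1,[12716],[]),(1,[13085,2266],[]),(1,[1171,13086],[]),(1,[12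851,12723],[]),(1,[12729],[]),(1,[13093,10254],[]),(1,[3966,13094],[]),(1,[12737],[]),(1,[13099,5410],[]),(1,[12740],[]),(1,[13103,10044],[]),(1,[13103,10043],[]),(1,[12746],[]),(1,[13109,7832],[]),(1,[2445,13110],[]),(1,[12752],[]),(1,[13115,8949],[]),(1,[7149,13116],[]),(1,[12757],[]),(1,[13121,7226],[]),(1,[12763],[]),(1,[13125,3750],[]),(1,[1044,13126],[]),(1,[12769],[]),(1,[13131,9908],[]),(1,[1419,13132],[]),(1,[12774],[]),(1,[13137,10401],[]),(1,[12781],[]),(1,[13141,3981],[]),(1,[162,13142],[]),(1,[12787],[]),(1,[13147,6214],[]),(1,[2271,13148],[]),(1,[12793],[]),(1,[13153,10729],[]),(1,[125,13154],[]),(1,[12799],[]),(1,[13159,6988],[]),(1,[332,13160],[]),(1,[12802],[]),(1,[13165,6232],[]),(1,[6973,13166],[]),(1,[13165,3593],[]),(1,[13165,3570],[]),(1,[919,13172],[]),(1,[12809],[]),(1,[13177,374],[]),(1,[343,13178],[]),(1,[13177,811],[]),(1,[4132,13182],[]),(1,[12813],[]),(1,[13187,4440],[]),(1,[295,13188],[]),(1,[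13187,3101],[]),(1,[155,13192],[]),(1,[12819],[]),(1,[13197,4060],[]),(1,[2381,13198],[]),(1,[12822],[]),(1,[13203,870],[]),(1,[159,13204],[]),(1,[12831],[]),(1,[12837],[]),(1,[13211,4992],[]),(1,[413,13212],[]),(1,[12843],[]),(1,[13217,6448],[]),(1,[8447,13218],[]),(1,[12849],[]),(1,[13223,7163],[]),(1,[6603,13224],[]),(1,[12859],[]),(1,[13229,10872],[]),(1,[713,13230],[]),(1,[13229,12176],[]),(1,[800,13234],[]),(1,[12863],[]),(1,[13239,2842],[]),(1,[899,13240],[]),(1,[12870],[]),(1,[13245,9624],[]),(1,[12877],[]),(1,[13249,1369,13248],[]),(1,[128,13250],[]),(1,[12881],[]),(1,[13255,3924],[]),(1,[605,13256],[]),(1,[13255,13100],[]),(1,[135,13260],[]),(1,[12887],[]),(1,[13265,5574],[]),(1,[29,13266],[]),(1,[12893],[]),(1,[13271,10385],[]),(1,[1318,13272],[]),(1,[12899],[]),(1,[13277,5988],[]),(1,[315,13278],[]),(1,[13209,12905],[]),(1,[13283,1024],[]),(1,[54,13284],[]),(1,[12911],[]),(1,[13289,9794],[]),(1,[164,13290],[]),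(1,[13065,12917],[]),(1,[13295,656],[]),(1,[413,13296],[]),(1,[12921],[]),(1,[13301,10077],[]),(1,[241,13302],[]),(1,[12927],[]),(1,[13307,10392],[]),(1,[241,13308],[]),(1,[12931],[]),(1,[13313,12937],[]),(1,[13315,53],[]),(1,[6,13316],[]),(1,[12941],[]),(1,[13321,3944],[]),(1,[415,13322],[]),(1,[12947],[]),(1,[13327,10209],[]),(1,[3071,13328],[]),(1,[13327,1249],[]),(1,[708,13332],[]),(1,[13091,12952],[]),(1,[13337,6088],[]),(1,[3799,13338],[]),(1,[12959],[]),(1,[13343,10062],[]),(1,[2019,13344],[]),(1,[12967],[]),(1,[13349,2942],[]),(1,[1301,13350],[]),(1,[12973],[]),(1,[13355,5262],[]),(1,[4017,13356],[]),(1,[13355,5229],[]),(1,[12979],[]),(1,[13363,13006],[]),(1,[285,13364],[]),(1,[13363,1360],[]),(1,[115,13368],[]),(1,[12985],[]),(1,[13373,12059],[]),(1,[27,13374],[]),(1,[12991],[]),(1,[13379,9788],[]),(1,[77,13380],[]),(1,[12997],[]),(1,[13385,1415],[]),(1,[239,13386],[]),(1,[13003],[]),(1,[13391,9729],[]),(1,[11373,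13392],[]),(1,[13013],[]),(1,[13397,9206],[]),(1,[1413,13398],[]),(1,[13019],[]),(1,[13403,8114],[]),(1,[721,13404],[]),(1,[13023],[]),(1,[13409,6980],[]),(1,[611,13410],[]),(1,[13026],[]),(1,[13415,3180],[]),(1,[699,13416],[]),(1,[13415,716],[]),(1,[13415,853],[]),(1,[696,13422],[]),(1,[13033],[]),(1,[13427,7549],[]),(1,[873,13428],[]),(1,[13427,7593],[]),(1,[13420,13432],[]),(1,[13039],[]),(1,[13437,8752],[]),(1,[8245,13438],[]),(1,[13045],[]),(1,[13443,3165],[]),(1,[1310,13444],[]),(1,[13051],[]),(1,[13449,880],[]),(1,[261,13450],[]),(1,[13057],[]),(1,[13455,8671],[]),(1,[7774,13456],[]),(1,[13455,6172],[]),(1,[1338,13460],[]),(1,[13063],[]),(1,[13465,5424],[]),(1,[4949,13466],[]),(1,[13071],[]),(1,[13471,5197],[]),(1,[13077],[]),(1,[13475,6977],[]),(1,[8340,13476],[]),(1,[13083],[]),(1,[13481,13472],[]),(1,[2028,13482],[]),(1,[13089],[]),(1,[13487,3995],[]),(1,[1082,13488],[]),(1,[13097],[]),(1,[13493,10256],[]),(1,[3964,13494],[]),(1,[13113],[])]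

theorem ok26 : data.stepsOK st26 6500 = true := by decide +kernel

def st27 : List Step := [(1,[13499,7828],[]),(1,[11023,13500],[]),(1,[13119],[]),(1,[13505,9936],[]),(1,[7495,13506],[]),(1,[13129],[]),(1,[13511,11112],[]),(1,[2797,13512],[]),(1,[13135],[]),(1,[13517,6798],[]),(1,[6941,13518],[]),(1,[13145],[]),(1,[13523,6051],[]),(1,[160,13524],[]),(1,[13151],[]),(1,[13529,3008],[]),(1,[2273,13530],[]),(1,[13157],[]),(1,[13535,10730],[]),(1,[127,13536],[]),(1,[13163],[]),(1,[13541,8774],[]),(1,[12400,13542],[]),(1,[13541,6990],[]),(1,[330,13546],[]),(1,[13168],[]),(1,[13551,6973],[]),(1,[13551,7994],[]),(1,[6235,13554],[]),(1,[13175],[]),(1,[13559,982],[]),(1,[7935,13560],[]),(1,[13181],[]),(1,[13565,684],[]),(1,[345,13566],[]),(1,[13184],[]),(1,[13571,4132],[]),(1,[13571,4131],[]),(1,[120,13574],[]),(1,[13191],[]),(1,[13579,5289],[]),(1,[150,13580],[]),(1,[13195],[]),(1,[13585,2134],[]),(1,[607,13586],[]),(1,[13201],[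]),(1,[13591,5704],[]),(1,[1627,13592],[]),(1,[13206],[]),(1,[13597,296],[]),(1,[13597,160],[]),(1,[121,13600],[]),(1,[13597,1092],[]),(1,[118,13604],[]),(1,[13215],[]),(1,[13609,4994],[]),(1,[415,13610],[]),(1,[13220],[]),(1,[13615,8447],[]),(1,[13615,11922],[]),(1,[6573,13618],[]),(1,[13227],[]),(1,[13623,9726],[]),(1,[11085,13624],[]),(1,[13233],[]),(1,[13629,13360],[]),(1,[712,13630],[]),(1,[13237],[]),(1,[13635,8390],[]),(1,[415,13636],[]),(1,[13243],[]),(1,[13641,2844],[]),(1,[7213,13642],[]),(1,[13641,6102],[]),(1,[704,13646],[]),(1,[13253],[]),(1,[13651,130],[]),(1,[5351,13652],[]),(1,[13259],[]),(1,[13657,13107],[]),(1,[13657,3777],[]),(1,[308,13660],[]),(1,[13263],[]),(1,[13665,5412],[]),(1,[935,13666],[]),(1,[13269],[]),(1,[13671,5576],[]),(1,[1243,13672],[]),(1,[13275],[]),(1,[13677,10388],[]),(1,[1431,13678],[]),(1,[13281],[]),(1,[13683,3814],[]),(1,[939,13684],[]),(1,[13683,3813],[]),(1,[317,13688],[]),(1,[13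287,13314],[]),(1,[13293],[]),(1,[13695,9796],[]),(1,[162,13696],[]),(1,[13299],[]),(1,[13701,686],[]),(1,[415,13702],[]),(1,[13701,447],[]),(1,[801,13706],[]),(1,[13305],[]),(1,[13711,8534],[]),(1,[271,13712],[]),(1,[13311],[]),(1,[13717,10394],[]),(1,[271,13718],[]),(1,[13319],[]),(1,[13723,270],[]),(1,[201,13724],[]),(1,[13325],[]),(1,[13729,4010],[]),(1,[417,13730],[]),(1,[13331],[]),(1,[13735,10316],[]),(1,[3207,13736],[]),(1,[13735,10264],[]),(1,[3073,13740],[]),(1,[13335],[]),(1,[13745,1406],[]),(1,[899,13746],[]),(1,[13341],[]),(1,[13751,5736],[]),(1,[3801,13752],[]),(1,[13347],[]),(1,[13757,10274],[]),(1,[2021,13758],[]),(1,[13757,10051],[]),(1,[7083,13762],[]),(1,[13353],[]),(1,[13767,4882],[]),(1,[1303,13768],[]),(1,[13767,4884],[]),(1,[2784,13772],[]),(1,[13359],[]),(1,[13777,5179],[]),(1,[3952,13778],[]),(1,[13366,13692],[]),(1,[13783,112],[]),(1,[57,13784],[]),(1,[13371],[]),(1,[13789,1412],[]),(1,[4729,13790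],[]),(1,[13377],[]),(1,[13795,3473],[]),(1,[29,13796],[]),(1,[13795,12359],[]),(1,[1532,13800],[]),(1,[13383],[]),(1,[13805,9808],[]),(1,[239,13806],[]),(1,[13389],[]),(1,[13811,1267],[]),(1,[712,13812],[]),(1,[13395],[]),(1,[13401],[]),(1,[13819,9204],[]),(1,[1411,13820],[]),(1,[13407],[]),(1,[13825,8116],[]),(1,[1551,13826],[]),(1,[13413],[]),(1,[13831,6941],[]),(1,[300,13832],[]),(1,[13419],[]),(1,[13837,5520],[]),(1,[701,13838],[]),(1,[13837,3182],[]),(1,[7968,13842],[]),(1,[13424],[]),(1,[13847,696],[]),(1,[13659,13848],[]),(1,[13431],[]),(1,[13853,2848],[]),(1,[611,13854],[]),(1,[13853,2702],[]),(1,[305,13858],[]),(1,[13435],[]),(1,[13863,7613],[]),(1,[13441],[]),(1,[13867,8754],[]),(1,[11940,13868],[]),(1,[13446],[]),(1,[13873,1426],[]),(1,[795,13874],[]),(1,[13453],[]),(1,[13459],[]),(1,[13881,8669],[]),(1,[10879,13882],[]),(1,[13463],[]),(1,[13887,6174],[]),(1,[7766,13888],[]),(1,[13469],[]),(1,[13478],[]),(1,[13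895,8339],[]),(1,[6938,13896],[]),(1,[13485],[]),(1,[13901,5108],[]),(1,[2111,13902],[]),(1,[13491],[]),(1,[13907,4020],[]),(1,[361,13908],[]),(1,[13497],[]),(1,[13913,10258],[]),(1,[789,13914],[]),(1,[13502],[]),(1,[13919,8625],[]),(1,[7814,13920],[]),(1,[13509],[]),(1,[13925,9938],[]),(1,[13515],[]),(1,[13929,9943],[]),(1,[5794,13930],[]),(1,[13521,13830],[]),(1,[13935,6800],[]),(1,[303,13936],[]),(1,[13527,13596],[]),(1,[13941,3758],[]),(1,[13599,13942],[]),(1,[13533],[]),(1,[13947,4464],[]),(1,[163,13948],[]),(1,[13947,2975],[]),(1,[13539],[]),(1,[13955,9842],[]),(1,[5351,13956],[]),(1,[13545],[]),(1,[13961,8871],[]),(1,[3774,13962],[]),(1,[13549],[]),(1,[13967,921],[]),(1,[13557],[]),(1,[13971,7996],[]),(1,[6239,13972],[]),(1,[13562],[]),(1,[13977,7935],[]),(1,[13569],[]),(1,[13981,4948],[]),(1,[347,13982],[]),(1,[13981,573],[]),(1,[13577],[]),(1,[13583],[]),(1,[13991,5354],[]),(1,[5621,13992],[]),(1,[13589],[]),(1,[13997,5268],[])]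

theorem ok27 : data.stepsOK st27 6750 = true := by decide +kernel

end

end Mem
end HN
end H39
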