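import Cfsg.Agent.H39.HN.Mem.Data

/-!
Steps of a derivation (generated data).
-/

set_option autoImplicit false
set_option maxRecDepth 100000
set_option linter.all false
set_option Elab.async false

namespace H39
namespace HN
namespace Mem

open H93.CosetI

noncomputable section

def st28 : List Step := [(1,[2009,13998],[]),(1,[13595],[]),(1,[14003,5706],[]),(1,[5175,14004],[]),(1,[14003,6311],[]),(1,[1629,14008],[]),(1,[13603],[]),(1,[14013,162],[]),(1,[13573,14014],[]),(1,[14013,13952],[]),(1,[120,14018],[]),(1,[13607],[]),(1,[14023,993],[]),(1,[13986,14024],[]),(1,[13613],[]),(1,[14029,4996],[]),(1,[417,14030],[]),(1,[13621],[]),(1,[14035,8392],[]),(1,[13626,13816],[]),(1,[14039,9857],[]),(1,[8492,14040],[]),(1,[13633],[]),(1,[14045,4926],[]),(1,[901,14046],[]),(1,[14035,13639],[]),(1,[14051,14036],[]),(1,[417,14052],[]),(1,[14051,6573],[]),(1,[759,14056],[]),(1,[13644],[]),(1,[14061,8032],[]),(1,[2847,14062],[]),(1,[14061,7213],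[]),(1,[13649],[]),(1,[14069,6104],[]),(1,[14069,6167],[]),(1,[13654],[]),(1,[13663],[]),(1,[14077,3775],[]),(1,[306,14078],[]),(1,[13893,13669],[]),(1,[13674],[]),(1,[14085,1346],[]),(1,[14071,14086],[]),(1,[13681],[]),(1,[14091,10381],[]),(1,[1338,14092],[]),(1,[13686,13728],[]),(1,[14097,1073],[]),(1,[417,14098],[]),(1,[14097,939],[]),(1,[759,14102],[]),(1,[13691],[]),(1,[14107,6445],[]),(1,[44,14108],[]),(1,[13699,14012],[]),(1,[13705],[]),(1,[14115,688],[]),(1,[417,14116],[]),(1,[13708,13878],[]),(1,[14121,900],[]),(1,[23,14122],[]),(1,[14121,712],[]),(1,[177,14126],[]),(1,[14121,801],[]),(1,[20,14130],[]),(1,[13715],[]),(1,[14135,10164],[]),(1,[13721],[]),(1,[14139,3807],[]),(1,[14137,14140],[]),(1,[13727],[]),(1,[14145,14136],[]),(1,[2,14146],[]),(1,[14145,49],[]),(1,[87,14150],[]),(1,[13733],[]),(1,[14155,3990],[]),(1,[3011,14156],[]),(1,[13739],[]),(1,[14161,10205],[]),(1,[5566,14162],[]),(1,[13742],[]),(1,[14167,3413],[]),(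1,[2107,14168],[]),(1,[14167,3073],[]),(1,[13749],[]),(1,[14175,7682],[]),(1,[14066,14176],[]),(1,[13754],[]),(1,[14181,784],[]),(1,[335,14182],[]),(1,[13761],[]),(1,[14187,10248],[]),(1,[2023,14188],[]),(1,[13765],[]),(1,[14193,10049],[]),(1,[7085,14194],[]),(1,[13770,13988],[]),(1,[14199,1304],[]),(1,[121,14200],[]),(1,[13774],[]),(1,[14205,13617],[]),(1,[347,14206],[]),(1,[13781],[]),(1,[14211,5264],[]),(1,[4015,14212],[]),(1,[13787],[]),(1,[14217,114],[]),(1,[413,14218],[]),(1,[13793],[]),(1,[14223,1410],[]),(1,[397,14224],[]),(1,[13799],[]),(1,[14229,12348],[]),(1,[14229,12350],[]),(1,[13803],[]),(1,[13809],[]),(1,[14237,9839],[]),(1,[14223,13815,14120],[]),(1,[14241,396],[]),(1,[23,14242],[]),(1,[13823],[]),(1,[14247,2005],[]),(1,[4786,14248],[]),(1,[13829],[]),(1,[14253,12648],[]),(1,[2375,14254],[]),(1,[13835],[]),(1,[14259,1274],[]),(1,[503,14260],[]),(1,[13841],[]),(1,[14265,6026],[]),(1,[703,14266],[]),(1,[13844],[]),(1,[1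4271,8067],[]),(1,[5565,14272],[]),(1,[14271,7968],[]),(1,[13850],[]),(1,[14279,13104],[]),(1,[699,14280],[]),(1,[14279,13659],[]),(1,[13865,14284],[]),(1,[13857],[]),(1,[13861],[]),(1,[14291,2704],[]),(1,[867,14292],[]),(1,[13871],[]),(1,[14297,13926],[]),(1,[11941,14298],[]),(1,[13877],[]),(1,[14303,1307],[]),(1,[3161,14304],[]),(1,[13884],[]),(1,[14309,10886],[]),(1,[8666,14310],[]),(1,[13890],[]),(1,[14315,7766],[]),(1,[13898],[]),(1,[13905],[]),(1,[14321,5110],[]),(1,[2038,14322],[]),(1,[14321,5215],[]),(1,[2024,14326],[]),(1,[13911],[]),(1,[13917],[]),(1,[14333,10260],[]),(1,[791,14334],[]),(1,[13923],[]),(1,[14339,7857],[]),(1,[7826,14340],[]),(1,[13933],[]),(1,[14345,9941],[]),(1,[5836,14346],[]),(1,[13939],[]),(1,[14351,6857],[]),(1,[872,14352],[]),(1,[13945],[]),(1,[14357,8707],[]),(1,[156,14358],[]),(1,[13951],[]),(1,[14363,4466],[]),(1,[609,14364],[]),(1,[14075,13958,14112],[]),(1,[14369,132],[]),(1,[13573,14370],[]),(1,[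13965],[]),(1,[14375,8869],[]),(1,[5389,14376],[]),(1,[13975],[]),(1,[14381,7998],[]),(1,[6241,14382],[]),(1,[14083,13985],[]),(1,[14387,12533,14386],[]),(1,[621,14388],[]),(1,[13994,14234],[]),(1,[14393,5662],[]),(1,[1607,14394],[]),(1,[14001],[]),(1,[14399,5272],[]),(1,[5677,14400],[]),(1,[14399,5270],[]),(1,[2011,14404],[]),(1,[14007],[]),(1,[14409,5708],[]),(1,[14011],[]),(1,[14413,6353],[]),(1,[1631,14414],[]),(1,[14016],[]),(1,[14419,618],[]),(1,[609,14420],[]),(1,[14419,13573],[]),(1,[14021],[]),(1,[14427,6764],[]),(1,[13599,14428],[]),(1,[14026],[]),(1,[14433,13986],[]),(1,[14319,14033],[]),(1,[14437,2932],[]),(1,[419,14438],[]),(1,[14043],[]),(1,[14443,13139],[]),(1,[10447,14444],[]),(1,[14443,9855],[]),(1,[11456,14448],[]),(1,[14049],[]),(1,[14453,5236],[]),(1,[708,14454],[]),(1,[14055],[]),(1,[14459,12867],[]),(1,[419,14460],[]),(1,[14059],[]),(1,[14271,14065],[]),(1,[14467,5564],[]),(1,[4810,14468],[]),(1,[14467,14276],[]),(1,[2786,14472],[]),(1,[14467,3184],[]),(1,[2846,14476],[]),(1,[14081],[]),(1,[14481,5388],[]),(1,[304,14482],[]),(1,[14088],[]),(1,[14487,14073],[]),(1,[14231,14488],[]),(1,[14161,14095],[]),(1,[14493,3416],[]),(1,[1437,14494],[]),(1,[14493,5567],[])]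

theorem ok28 : data.stepsOK st28 7000 = true := by decide +kernel

def st29 : List Step := [(1,[14316,14498],[]),(1,[14100],[]),(1,[14503,418],[]),(1,[267,14504],[]),(1,[14104],[]),(1,[14111],[]),(1,[14511,6388],[]),(1,[2475,14512],[]),(1,[14289,14119,14502],[]),(1,[14517,302],[]),(1,[267,14518],[]),(1,[14125],[]),(1,[14523,3070],[]),(1,[25,14524],[]),(1,[14523,709],[]),(1,[500,14528],[]),(1,[14129],[]),(1,[14533,14238],[]),(1,[176,14534],[]),(1,[14133],[]),(1,[14142],[]),(1,[14541,10312],[]),(1,[13123,14542],[]),(1,[14541,14149],[]),(1,[14547,13122],[]),(1,[1,14548],[]),(1,[14152],[]),(1,[14553,87],[]),(1,[14158,14330],[]),(1,[14165],[]),(1,[14559,10203],[]),(1,[14171],[]),(1,[14563,3187],[]),(1,[10377,14564],[]),(1,[14179],[]),(1,[14569,7731],[]),(1,[2847,14570],[]),(1,[14185],[]),(1,[14575,786],[]),(1,[13170,14576],[]),(1,[14191],[]),(1,[14581,14561],[]),(1,[2109,14582],[]),(1,[14581,10201],[]),(1,[2025,14586],[]),(1,[14197],[])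,(1,[14591,10070],[]),(1,[2113,14592],[]),(1,[14203],[]),(1,[14464,14508],[]),(1,[14208,14598],[]),(1,[14215],[]),(1,[14603,14410],[]),(1,[7253,14604],[]),(1,[14221,14538],[]),(1,[14609,287],[]),(1,[14227],[]),(1,[14613,4787],[]),(1,[4762,14614],[]),(1,[14245],[]),(1,[14619,4763],[]),(1,[500,14620],[]),(1,[14250],[]),(1,[14257],[]),(1,[14263],[]),(1,[14269],[]),(1,[14631,6068],[]),(1,[14631,6159],[]),(1,[14275],[]),(1,[14637,7965],[]),(1,[5582,14638],[]),(1,[14283],[]),(1,[14286],[]),(1,[14645,6996],[]),(1,[311,14646],[]),(1,[14295],[]),(1,[14651,2684],[]),(1,[13969,14652],[]),(1,[14301],[]),(1,[14597,14307,14556],[]),(1,[14659,14425],[]),(1,[43,14660],[]),(1,[14313],[]),(1,[14665,7794],[]),(1,[6179,14666],[]),(1,[14325],[]),(1,[14671,7114],[]),(1,[2113,14672],[]),(1,[14329],[]),(1,[14677,2151],[]),(1,[2022,14678],[]),(1,[14337],[]),(1,[14683,10262],[]),(1,[793,14684],[]),(1,[14343],[]),(1,[14689,7855],[]),(1,[6998,14690],[]),(1,[146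57,14349],[]),(1,[14695,8246],[]),(1,[5837,14696],[]),(1,[14355],[]),(1,[14701,4471],[]),(1,[13420,14702],[]),(1,[14361],[]),(1,[14707,5136],[]),(1,[607,14708],[]),(1,[14367],[]),(1,[14713,4468],[]),(1,[1535,14714],[]),(1,[14419,14372],[]),(1,[14379],[]),(1,[14721,8883],[]),(1,[14385],[]),(1,[14725,8000],[]),(1,[6243,14726],[]),(1,[14601,14391,14432],[]),(1,[14731,315],[]),(1,[14731,316],[]),(1,[14396],[]),(1,[14737,1539],[]),(1,[151,14738],[]),(1,[14402],[]),(1,[14743,5700],[]),(1,[14743,5790],[]),(1,[2148,14746],[]),(1,[14407],[]),(1,[14751,8548],[]),(1,[4809,14752],[]),(1,[14417],[]),(1,[14757,6363],[]),(1,[1633,14758],[]),(1,[14422],[]),(1,[14763,1534],[]),(1,[1909,14764],[]),(1,[14431],[]),(1,[14769,6753],[]),(1,[156,14770],[]),(1,[14441],[]),(1,[14775,2934],[]),(1,[421,14776],[]),(1,[14775,7112],[]),(1,[7210,14780],[]),(1,[14446],[]),(1,[14785,10447],[]),(1,[14785,10448],[]),(1,[10006,14788],[]),(1,[14450,14628],[]),(1,[14793,1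1456],[]),(1,[21,14794],[]),(1,[14457],[]),(1,[14799,5147],[]),(1,[14463],[]),(1,[14803,13247],[]),(1,[7210,14804],[]),(1,[14471],[]),(1,[14809,5583],[]),(1,[2010,14810],[]),(1,[14474],[]),(1,[14815,2656],[]),(1,[897,14816],[]),(1,[14815,2786],[]),(1,[14479],[]),(1,[14485],[]),(1,[14825,14722],[]),(1,[872,14826],[]),(1,[14490],[]),(1,[14831,14233],[]),(1,[14633,14832],[]),(1,[14497],[]),(1,[14837,14173],[]),(1,[2659,14838],[]),(1,[14500,14808],[]),(1,[14843,14316],[]),(1,[2098,14844],[]),(1,[14843,6176],[]),(1,[2010,14848],[]),(1,[14507],[]),(1,[14853,420],[]),(1,[1617,14854],[]),(1,[14853,7211],[]),(1,[36,14858],[]),(1,[14515],[]),(1,[14521],[]),(1,[14865,304],[]),(1,[1617,14866],[]),(1,[14865,873],[]),(1,[36,14870],[]),(1,[14837,14527],[]),(1,[14875,1336],[]),(1,[27,14876],[]),(1,[14875,2658],[]),(1,[194,14880],[]),(1,[14531],[]),(1,[14885,898],[]),(1,[1373,14886],[]),(1,[14885,14800],[]),(1,[498,14890],[]),(1,[14537],[]),(1,[14895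,10418],[]),(1,[23,14896],[]),(1,[14545],[]),(1,[14901,10330],[]),(1,[7229,14902],[]),(1,[14901,10229],[]),(1,[14551],[]),(1,[14909,7228],[]),(1,[17,14910],[]),(1,[14909,14906],[]),(1,[3,14914],[]),(1,[14823,14567],[]),(1,[14919,14066],[]),(1,[10376,14920],[]),(1,[14572],[]),(1,[14925,14821],[]),(1,[14578],[]),(1,[14929,13553],[]),(1,[789,14930],[]),(1,[14584,14808],[]),(1,[14935,2051],[]),(1,[2010,14936],[]),(1,[14588,14642],[]),(1,[14941,2025],[]),(1,[14926,14942],[]),(1,[14627,14595],[]),(1,[14947,2375],[]),(1,[14606],[]),(1,[14951,7250],[]),(1,[5711,14952],[]),(1,[14625,14617],[]),(1,[14957,2106],[]),(1,[4792,14958],[]),(1,[14623],[]),(1,[14641],[]),(1,[14965,8060],[]),(1,[8259,14966],[]),(1,[14649],[]),(1,[14655],[]),(1,[14973,2686],[]),(1,[13978,14974],[]),(1,[14719,14663],[]),(1,[14979,604],[]),(1,[2475,14980],[]),(1,[14669],[]),(1,[14985,7761],[]),(1,[14675],[]),(1,[14989,7116],[]),(1,[14949,14990],[]),(1,[14681],[]),(1,[14995,14744],[]),(1,[7065,14996],[])]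

theorem ok29 : data.stepsOK st29 7250 = true := by decide +kernel

def st30 : List Step := [(1,[14995,2149],[]),(1,[14863,14687],[]),(1,[15003,2475],[]),(1,[15003,2689],[]),(1,[792,15006],[]),(1,[14970,14978],[]),(1,[14693,15010],[]),(1,[15013,7930],[]),(1,[15004,15014],[]),(1,[14699],[]),(1,[15019,8248],[]),(1,[5811,15020],[]),(1,[14705],[]),(1,[14711],[]),(1,[15027,5138],[]),(1,[406,15028],[]),(1,[14716,15024],[]),(1,[15033,1536],[]),(1,[699,15034],[]),(1,[15033,1916],[]),(1,[13421,15038],[]),(1,[14729],[]),(1,[15043,8547],[]),(1,[6245,15044],[]),(1,[14741],[]),(1,[14749],[]),(1,[14755,14924],[]),(1,[15053,8550],[]),(1,[14927,15054],[]),(1,[15053,8872],[]),(1,[14761],[]),(1,[15033,14767],[]),(1,[14773],[]),(1,[15065,7848],[]),(1,[154,15066],[]),(1,[14779],[]),(1,[15071,2778],[]),(1,[14782],[]),(1,[14956,14962],[]),(1,[14791],[]),(1,[15079,10808],[]),(1,[14797],[]),(1,[15083,14787],[]),(1,[23,15084],[]),(1,[15075,14806],[]),(1,[15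089,7097],[]),(1,[7074,15090],[]),(1,[15074,15088],[]),(1,[14813],[]),(1,[15097,8258],[]),(1,[14819,15062],[]),(1,[14829],[]),(1,[15103,8793],[]),(1,[719,15104],[]),(1,[14834],[]),(1,[15109,14635],[]),(1,[15109,14633],[]),(1,[14840,15076],[]),(1,[14847],[]),(1,[14851],[]),(1,[15119,6178],[]),(1,[15099,15120],[]),(1,[14856],[]),(1,[15095,14861],[]),(1,[15127,7075],[]),(1,[15125,14868],[]),(1,[15131,15072],[]),(1,[307,15132],[]),(1,[14873],[]),(1,[15137,718],[]),(1,[265,15138],[]),(1,[15117,14879],[]),(1,[15143,402],[]),(1,[29,15144],[]),(1,[15115,14883],[]),(1,[15149,1372],[]),(1,[193,15150],[]),(1,[15149,500],[]),(1,[14888],[]),(1,[15157,1327],[]),(1,[14893],[]),(1,[15161,5260],[]),(1,[891,15162],[]),(1,[14899],[]),(1,[15167,10415],[]),(1,[15154,15168],[]),(1,[14904],[]),(1,[15173,14913],[]),(1,[15175,5302],[]),(1,[19,15176],[]),(1,[14917],[]),(1,[15181,10329],[]),(1,[14554,15182],[]),(1,[14922],[]),(1,[14933],[]),(1,[15189,6234],[])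,(1,[791,15190],[]),(1,[14939],[]),(1,[15195,2114],[]),(1,[15099,15196],[]),(1,[14944],[]),(1,[15201,15058],[]),(1,[2022,15202],[]),(1,[15094,15126],[]),(1,[15061,14954,15206],[]),(1,[15209,1634],[]),(1,[265,15210],[]),(1,[14960,15186],[]),(1,[15215,15001],[]),(1,[15159,15216],[]),(1,[14968],[]),(1,[15221,15099],[]),(1,[15221,8251],[]),(1,[7990,15224],[]),(1,[14977],[]),(1,[15003,14982],[]),(1,[14993],[]),(1,[15233,7118],[]),(1,[1583,15234],[]),(1,[14998],[]),(1,[15239,7086],[]),(1,[15222,15240],[]),(1,[15229,15009],[]),(1,[15017,15230],[]),(1,[15247,7851],[]),(1,[15228,15244],[]),(1,[15050,15214],[]),(1,[15023,15252],[]),(1,[15031],[]),(1,[15257,5140],[]),(1,[404,15258],[]),(1,[15036,15048],[]),(1,[15263,700],[]),(1,[1548,15264],[]),(1,[15041,15136],[]),(1,[15269,7496],[]),(1,[265,15270],[]),(1,[15047],[]),(1,[15275,8584],[]),(1,[6385,15276],[]),(1,[15057,15262],[]),(1,[15281,8552],[]),(1,[1548,15282],[]),(1,[15069],[]),(1,[15287,15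249],[]),(1,[15087],[]),(1,[15291,10007],[]),(1,[15154,15292],[]),(1,[15092,15100],[]),(1,[15297,15129],[]),(1,[15107],[]),(1,[15301,8726],[]),(1,[1323,15302],[]),(1,[15301,8725],[]),(1,[721,15306],[]),(1,[15221,15122],[]),(1,[15311,7991],[]),(1,[14987,15312],[]),(1,[15220,15310],[]),(1,[15251,15135],[]),(1,[15141],[]),(1,[15321,1322],[]),(1,[1577,15322],[]),(1,[15321,720],[]),(1,[32,15326],[]),(1,[15147],[]),(1,[15157,15153],[]),(1,[15165],[]),(1,[15335,5143],[]),(1,[724,15336],[]),(1,[15171],[]),(1,[15341,10420],[]),(1,[193,15342],[]),(1,[15179],[]),(1,[15347,5304],[]),(1,[21,15348],[]),(1,[15185],[]),(1,[15353,5307],[]),(1,[15193,15318],[]),(1,[15357,6238],[]),(1,[309,15358],[]),(1,[15317,15198],[]),(1,[15363,14986],[]),(1,[2046,15364],[]),(1,[15205],[]),(1,[15369,8874],[]),(1,[15213],[]),(1,[15373,1636],[]),(1,[1577,15374],[]),(1,[15219],[]),(1,[15379,15370],[]),(1,[15254,15332],[]),(1,[15226,15382],[]),(1,[15237],[]),(1,[15387,7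120],[]),(1,[15310,15362],[]),(1,[15391,15242,15378],[]),(1,[15393,2047],[]),(1,[15381,15394],[]),(1,[15261,15330],[]),(1,[15266],[]),(1,[15401,1548],[]),(1,[15273],[]),(1,[15405,7498],[]),(1,[1577,15406],[]),(1,[15279],[]),(1,[15411,8543],[]),(1,[6326,15412],[]),(1,[15285,15400],[]),(1,[15417,8554],[]),(1,[703,15418],[]),(1,[15295],[]),(1,[15423,15080],[]),(1,[193,15424],[]),(1,[15305],[]),(1,[15429,8728],[]),(1,[1344,15430],[]),(1,[15309],[]),(1,[15435,8800],[]),(1,[723,15436],[]),(1,[15314,15384],[]),(1,[15324],[]),(1,[15443,1577],[]),(1,[15329],[]),(1,[15447,15388],[]),(1,[33,15448],[]),(1,[15338,15398],[]),(1,[15345],[]),(1,[15455,10411],[]),(1,[15351],[]),(1,[15459,15355],[]),(1,[15361],[]),(1,[15463,6240],[]),(1,[15288,15464],[]),(1,[15366,15440],[]),(1,[15377,15442],[]),(1,[15471,1638],[]),(1,[15396,15468],[]),(1,[15475,8876],[]),(1,[15457,15476],[]),(1,[15409,15442],[]),(1,[15481,7500],[]),(1,[15473,15482],[]),(1,[15415],[]),(1,[15487,7123],[]),(1,[6324,15488],[]),(1,[15421],[]),(1,[15427],[]),(1,[15495,10807],[]),(1,[147,15496],[])]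

theorem ok30 : data.stepsOK st30 7500 = true := by decide +kernel

def st31 : List Step := [(1,[15433],[]),(1,[15501,7062],[]),(1,[15439,15452],[]),(1,[15505,8805],[]),(1,[28,15506],[]),(1,[15451],[]),(1,[15467],[]),(1,[15513,6242],[]),(1,[295,15514],[]),(1,[15478,15492],[]),(1,[15519,15457],[]),(1,[15485],[]),(1,[15490,15510],[]),(1,[15525,6324],[]),(1,[15444,15526],[]),(1,[15523,15499],[]),(1,[15531,15473],[]),(1,[15509],[]),(1,[15535,15503],[]),(1,[15517],[]),(1,[15539,6244],[]),(1,[150,15540],[]),(1,[15529],[]),(1,[15545,6326],[]),(1,[1344,15546],[]),(1,[15543],[]),(1,[15551,6382],[]),(1,[15549],[]),(1,[15555,15553],[])]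

theorem ok31 : data.stepsOK st31 7750 = true := by decide +kernel

end

end Mem
end HN
end H39
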