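import Cfsg.Agent.H39.HN.Mem.Data

/-!
Steps of a derivation (generated data).
-/

set_option autoImplicit false
set_option maxRecDepth 100000
set_option linter.all false
set_option Elab.async false

namespace H39
namespace HN
namespace Mem

open H93.CosetI

noncomputable section

def st0 : List Step := [(9,[],[]),(0,[],[]),(0,[],[]),(0,[],[]),(0,[],[]),(0,[],[]),(0,[],[]),(10,[2,4,6,8,10,12],[2]),(0,[],[]),(0,[],[]),(0,[],[]),(0,[],[]),(0,[],[]),(0,[],[]),(0,[],[]),(0,[],[]),(0,[],[]),(0,[],[]),(0,[],[]),(0,[],[]),(0,[],[]),(0,[],[]),(0,[],[]),(0,[],[]),(0,[],[]),(0,[],[]),(0,[],[]),(7,[16,18,20,22,24,26,28,30,32,34,36,38,40,42,44,46,48,50,52],[1,2,15,13]),(0,[],[]),(0,[],[]),(0,[],[]),(0,[],[]),(0,[],[]),(4,[2,4,6,56,58,60,62,64],[1,2,15]),(0,[],[]),(0,[],[]),(0,[],[]),(0,[],[]),(0,[],[]),(0,[],[]),(0,[],[]),(0,[],[]),(6,[16,68,70,72,74,76,78,80,82],[1,2,15,13,11,9]),(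0,[],[]),(0,[],[]),(0,[],[]),(0,[],[]),(0,[],[]),(0,[],[]),(0,[],[]),(0,[],[]),(0,[],[]),(0,[],[]),(0,[],[]),(0,[],[]),(0,[],[]),(0,[],[]),(0,[],[]),(0,[],[]),(0,[],[]),(0,[],[]),(0,[],[]),(0,[],[]),(0,[],[]),(0,[],[]),(0,[],[]),(0,[],[]),(0,[],[]),(0,[],[]),(0,[],[]),(8,[2,86,88,90,92,94,96,98,100,102,104,106,108,110,112,114,116,118,120,122,124,126,128,130,132,134,136,138],[1,2,15,67,65,63,61]),(0,[],[]),(0,[],[]),(0,[],[]),(0,[],[]),(0,[],[]),(0,[],[]),(0,[],[]),(0,[],[]),(0,[],[]),(0,[],[]),(0,[],[]),(0,[],[]),(5,[16,18,20,22,24,142,144,146,148,150,152,154,156,158,160,162,164],[1,2,86]),(3,[16,18,20],[2,86,88]),(1,[169],[]),(1,[171,90],[]),(1,[23,172],[]),(1,[171,89],[]),(1,[175],[]),(1,[179,92],[]),(1,[25,180],[]),(1,[183],[]),(1,[185,94],[]),(1,[143,186],[]),(1,[188],[]),(1,[191,144],[]),(1,[191,143],[]),(2,[4],[15]),(1,[197],[]),(1,[199,14],[]),(1,[199,67],[]),(1,[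7,202],[]),(1,[199,13],[]),(1,[205],[]),(1,[209,65],[]),(1,[84,210],[]),(1,[212],[]),(1,[215,84],[]),(1,[215,83],[]),(1,[62,218],[]),(1,[221],[]),(1,[223,81],[]),(1,[60,224],[]),(1,[227],[]),(1,[229,79],[]),(1,[140,230],[]),(1,[232],[]),(1,[235,140],[]),(1,[235,139],[]),(3,[6,8],[206,55,53]),(2,[56],[217]),(1,[243],[]),(1,[245,216],[]),(1,[245,63],[]),(1,[59,248],[]),(1,[251],[]),(1,[253,61],[]),(2,[10],[]),(2,[68],[]),(2,[22],[]),(2,[26],[]),(2,[34],[]),(2,[38],[]),(2,[46],[]),(2,[50],[]),(2,[72],[]),(2,[76],[]),(2,[],[167]),(2,[192],[]),(2,[98],[]),(2,[104],[]),(2,[112],[]),(2,[116],[]),(2,[122],[]),(2,[130],[]),(2,[136],[]),(2,[152],[]),(2,[158],[]),(0,[],[]),(0,[],[]),(0,[],[]),(0,[],[]),(0,[],[]),(0,[],[]),(7,[3,16,18,298,300,302,304,306,308],[201,206,11,9,7,206,11,9,247,58,237,238,137,135]),(0,[],[]),(0,[],[]),(4,[86,276,312,314],[201,206,11,240,51,49,47]),(0,[],[]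),(0,[],[]),(0,[],[]),(0,[],[]),(0,[],[]),(0,[],[]),(0,[],[]),(0,[],[]),(0,[],[]),(0,[],[]),(0,[],[]),(0,[],[]),(0,[],[]),(0,[],[]),(0,[],[]),(0,[],[]),(0,[],[]),(0,[],[]),(0,[],[]),(0,[],[]),(0,[],[]),(8,[86,177,21,298,300,318,320,322,324,326,328,330,332,334,336,338,340,342,344,346,348,350,352,354,356,358],[201,206,11,240,51,49,47,45,43]),(0,[],[]),(0,[],[]),(0,[],[]),(0,[],[]),(0,[],[]),(0,[],[]),(0,[],[]),(0,[],[]),(0,[],[]),(0,[],[]),(0,[],[]),(5,[3,16,18,298,300,318,362,364,366,368,370,372,374,376,378,380,382],[201,206,55]),(0,[],[]),(0,[],[]),(0,[],[]),(0,[],[]),(0,[],[]),(0,[],[]),(0,[],[]),(0,[],[]),(0,[],[]),(0,[],[]),(0,[],[]),(7,[6,8,240,270,386,388,390,392,394,396,398,400,402,404,406],[5,86,167,165,163,161,159,157]),(4,[206,256,240,270,49,268,317],[5,86,167,312]),(0,[],[]),(0,[],[]),(0,[],[]),(0,[],[]),(0,[],[]),(0,[],[]),(0,[],[]),(0,[],[]),(0,[],[]),(6,[6,5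6,412,414,416,418,420,422,424,426,428],[5,86,167,165]),(0,[],[]),(0,[],[]),(0,[],[]),(0,[],[]),(0,[],[]),(0,[],[]),(0,[],[]),(0,[],[]),(0,[],[]),(0,[],[]),(0,[],[]),(0,[],[]),(0,[],[]),(0,[],[]),(0,[],[]),(0,[],[]),(0,[],[]),(0,[],[]),(0,[],[]),(0,[],[]),(0,[],[]),(0,[],[]),(0,[],[]),(8,[206,55,53,270,386,432,434,436,438,440,442,444,446,448,450,452,454,456,458,460,462,464,466,468,470,472,474,476],[5,86,167,312,411,316,269]),(0,[],[]),(0,[],[]),(0,[],[]),(0,[],[]),(0,[],[]),(0,[],[]),(0,[],[]),(0,[],[]),(0,[],[]),(0,[],[])]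

theorem ok0 : data.stepsOK st0 0 = true := by decide +kernel

def st1 : List Step := [(5,[6,8,240,270,386,432,480,482,484,486,488,490,492,494,496,498],[5,86,177,261]),(2,[298],[]),(3,[24,195,96],[501,499,497]),(1,[505],[]),(1,[507,495],[]),(1,[280,508],[]),(1,[507,496],[]),(1,[511],[]),(1,[515,493],[]),(1,[101,516],[]),(1,[519],[]),(1,[521,491],[]),(1,[103,522],[]),(1,[525],[]),(1,[527,489],[]),(1,[282,528],[]),(1,[531],[]),(1,[533,487],[]),(1,[107,534],[]),(1,[537],[]),(1,[539,485],[]),(1,[109,540],[]),(1,[543],[]),(1,[545,483],[]),(1,[111,546],[]),(1,[549],[]),(1,[551,481],[]),(1,[284,552],[]),(1,[555],[]),(1,[557,434],[]),(1,[115,558],[]),(1,[557,433],[]),(1,[561],[]),(1,[565,436],[]),(1,[117,566],[]),(1,[569],[]),(1,[571,438],[]),(2,[],[361]),(3,[48,386,563,114],[479,477]),(1,[577],[]),(1,[579,475],[]),(1,[286,580],[]),(1,[579,476],[]),(1,[583],[]),(1,[587,473],[])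,(1,[573,588],[]),(1,[591],[]),(1,[593,471],[]),(1,[441,594],[]),(1,[597],[]),(1,[599,469],[]),(2,[],[385]),(2,[],[311]),(2,[],[409]),(2,[],[431]),(2,[302],[]),(2,[362],[]),(2,[328],[]),(2,[336],[]),(2,[340],[]),(2,[346],[]),(2,[354],[]),(2,[370],[]),(2,[376],[]),(2,[396],[]),(2,[400],[]),(2,[414],[]),(2,[418],[]),(2,[422],[]),(2,[442],[600]),(1,[639],[]),(1,[641,601],[]),(1,[641,467],[]),(3,[644,465,463],[444,446,448]),(1,[646],[]),(1,[649,462],[]),(5,[449,447,445,642,441,573,286,584,478,48,50,52,54,256,240,52,54,256,240,52,602],[]),(1,[653],[]),(1,[655,449],[]),(1,[655,650],[]),(1,[382,658],[]),(1,[661],[]),(1,[663,464],[]),(1,[380,664],[]),(1,[667],[]),(1,[669,645],[]),(1,[378,670],[]),(1,[673],[]),(1,[675,642],[]),(1,[627,676],[]),(1,[675,444],[]),(1,[679],[]),(1,[683,441],[]),(0,[],[]),(0,[],[]),(0,[],[]),(0,[],[]),(0,[],[]),(0,[],[]),(0,[],[]),(0,[],[]),(0,[],[]),(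0,[],[]),(0,[],[]),(0,[],[]),(0,[],[]),(7,[8,240,52,602,656,686,688,690,692,694,696,698,700,702,704,706,708,710],[247,58,254,237,238]),(0,[],[]),(0,[],[]),(0,[],[]),(0,[],[]),(0,[],[]),(0,[],[]),(8,[7,206,55,602,656,447,681,626,375,373,624,369,367,365,612,320,322,714,716,718,720,722,724],[247,58,254,59,57,7,5,86,177,261,501,499]),(0,[],[]),(0,[],[]),(0,[],[]),(0,[],[]),(0,[],[]),(0,[],[]),(0,[],[]),(0,[],[]),(0,[],[]),(5,[8,240,52,602,656,447,728,730,732,734,736,738,740,742,744],[247,58,237,77,75]),(0,[],[]),(0,[],[]),(0,[],[]),(0,[],[]),(7,[240,52,54,256,240,270,386,563,114,116,118,748,750,752,754],[257,55,385,383,381,379,377,375]),(0,[],[]),(0,[],[]),(0,[],[]),(4,[9,56,412,414,758,760,762],[257,55,385,656]),(0,[],[]),(0,[],[]),(0,[],[]),(0,[],[]),(0,[],[]),(0,[],[]),(6,[240,270,386,388,390,766,768,770,772,774,776],[257,55,385,383]),(0,[],[]),(0,[],[]),(0,[],[]),(0,[],[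]),(0,[],[]),(0,[],[]),(0,[],[]),(0,[],[]),(0,[],[]),(8,[9,7,206,256,240,52,54,256,9,7,200,86,177,21,298,300,302,304,306,780,782,784,786,788,790,792,794,796],[257,55,385,656,765,763,761]),(3,[412],[58,237,238,713]),(3,[118,120],[572,685,375,373]),(1,[803],[]),(1,[805,624],[]),(1,[123,806],[]),(1,[805,372],[]),(1,[809],[]),(1,[813,369],[]),(1,[125,814],[]),(1,[817],[]),(1,[819,367],[]),(1,[127,820],[]),(1,[823],[]),(1,[825,365],[]),(1,[129,826],[]),(1,[829],[]),(1,[831,612],[]),(1,[131,832],[]),(1,[835],[]),(1,[837,320],[]),(1,[133,838],[]),(1,[837,319],[]),(1,[841],[]),(1,[845,322],[]),(1,[605,846],[]),(1,[849],[]),(1,[851,714],[]),(1,[851,324],[]),(1,[308,854],[]),(1,[857],[]),(1,[859,326],[]),(1,[306,860],[]),(1,[863],[]),(1,[865,328],[]),(1,[865,615],[]),(2,[748],[]),(3,[304,306,308,852,716],[]),(2,[780],[]),(2,[],[757]),(2,[],[779]),(2,[728],[]),(2,[686],[765]),(1,[8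83],[]),(1,[885,764],[]),(1,[885,763],[]),(2,[],[727]),(4,[888],[687,657,603,54,11,9,247,412,633,758]),(2,[694],[]),(2,[698],[]),(2,[706],[]),(2,[710],[]),(2,[718],[]),(2,[736],[]),(2,[742],[]),(2,[774],[]),(2,[788],[]),(2,[794],[]),(0,[],[]),(0,[],[]),(0,[],[]),(0,[],[]),(0,[],[]),(0,[],[]),(0,[],[]),(0,[],[]),(0,[],[]),(8,[55,53,241,10,207,6,8,10,55,53,270,49,479,585,116,118,748,750,752,914,916,918,920,922,924,926,928,930],[11,9,247,412,633,758,893]),(0,[],[]),(5,[207,6,8,10,207,6,56,412,800,712,292,934],[11,9,7,5,86,177,21,503]),(0,[],[]),(0,[],[]),(0,[],[]),(0,[],[]),(0,[],[]),(0,[],[]),(0,[],[]),(0,[],[]),(0,[],[]),(0,[],[]),(0,[],[]),(0,[],[]),(0,[],[]),(0,[],[]),(0,[],[]),(0,[],[]),(7,[18,20,176,276,312,314,938,940,942,944,946,948,950,952,954,956,958,960,962,964,966,968],[259]),(0,[],[]),(0,[],[]),(0,[],[]),(4,[17,0,16,68,971,972,974,976],[259,971,969]),(0,[],[]),(0,[],[]),(0,[],[]),(0,[],[]),(0,[],[]),(6,[18,298,300,302,304,866,980,982,984,986,988],[259,971,969,967]),(0,[],[]),(0,[],[]),(0,[],[]),(0,[],[])]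

theorem ok1 : data.stepsOK st1 250 = true := by decide +kernel

def st2 : List Step := [(0,[],[]),(0,[],[]),(0,[],[]),(0,[],[]),(0,[],[]),(0,[],[]),(0,[],[]),(0,[],[]),(0,[],[]),(0,[],[]),(0,[],[]),(0,[],[]),(0,[],[]),(0,[],[]),(0,[],[]),(0,[],[]),(0,[],[]),(0,[],[]),(0,[],[]),(8,[17,2,86,276,312,992,994,996,998,1000,1002,1004,1006,1008,1010,1012,1014,1016,1018,1020,1022,1024,1026,1028,1030,1032,1034,1036],[259,971,969,979,977,975,973]),(0,[],[]),(0,[],[]),(0,[],[]),(0,[],[]),(0,[],[]),(0,[],[]),(0,[],[]),(0,[],[]),(0,[],[]),(0,[],[]),(0,[],[]),(5,[18,20,176,276,312,992,1040,1042,1044,1046,1048,1050,1052,1054,1056,1058,1060],[259,971,1039]),(3,[40,42,44,317,938,940],[]),(1,[1064],[]),(1,[1067,942],[]),(1,[41,1068],[]),(1,[1067,941],[]),(1,[1071],[]),(1,[1075,944],[]),(1,[575,1076],[]),(1,[1079],[]),(1,[1081,946],[]),(3,[160,162,164,312,992,994],[]),(1,[1084],[]),(1,[10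87,996],[]),(1,[297,1088],[]),(1,[1087,995],[]),(1,[1091],[]),(1,[1095,998],[]),(1,[156,1096],[]),(1,[1099],[]),(1,[1101,1000],[]),(1,[154,1102],[]),(1,[1105],[]),(1,[1107,1002],[]),(1,[295,1108],[]),(1,[1111],[]),(1,[1113,1004],[]),(1,[150,1114],[]),(1,[1117],[]),(1,[1119,1006],[]),(1,[148,1120],[]),(1,[1123],[]),(1,[1125,1008],[]),(1,[146,1126],[]),(1,[1129],[]),(1,[1131,1010],[]),(1,[279,1132],[]),(1,[1135],[]),(1,[1137,1012],[]),(1,[97,1138],[]),(1,[1141],[]),(1,[1143,1014],[]),(1,[99,1144],[]),(1,[1147],[]),(1,[1149,1016],[]),(3,[688,690,692],[888,933,931]),(1,[1153],[]),(1,[1155,929],[]),(1,[894,1156],[]),(1,[1155,930],[]),(1,[1159],[]),(1,[1163,927],[]),(2,[914],[]),(2,[922],[]),(2,[948],[]),(2,[956],[]),(2,[960],[]),(2,[],[991]),(2,[968,972],[]),(1,[1178],[]),(1,[1181,973],[]),(1,[1181,974],[]),(1,[978,1184],[]),(1,[1186],[]),(1,[1189,977],[]),(1,[1189,978],[]),(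2,[982],[]),(2,[986],[]),(2,[1040],[]),(2,[1020],[]),(2,[1028],[]),(2,[1034],[]),(2,[],[1063]),(2,[1048],[]),(2,[1054],[]),(0,[],[]),(0,[],[]),(0,[],[]),(0,[],[]),(0,[],[]),(0,[],[]),(0,[],[]),(0,[],[]),(0,[],[]),(0,[],[]),(7,[20,176,87,4,6,56,412,800,712,292,934,1212,1214,1216,1218,1220,1222,1224,1226,1228,1230],[503,937]),(0,[],[]),(0,[],[]),(0,[],[]),(4,[19,68,70,72,747,1234,1236,1238],[503,937,1233]),(0,[],[]),(0,[],[]),(0,[],[]),(0,[],[]),(0,[],[]),(0,[],[]),(6,[20,22,24,26,28,1242,1244,1246,1248,1250,1252],[503,937,1233,1231]),(0,[],[]),(0,[],[]),(0,[],[]),(0,[],[]),(0,[],[]),(0,[],[]),(0,[],[]),(0,[],[]),(0,[],[]),(0,[],[]),(0,[],[]),(0,[],[]),(0,[],[]),(0,[],[]),(0,[],[]),(0,[],[]),(0,[],[]),(8,[19,17,2,4,6,8,240,270,49,479,1256,1258,1260,1262,1264,1266,1268,1270,1272,1274,1276,1278,1280,1282,1284,1286,1288],[503,937,1233,1241,1239,1237,1235,745]),(0,[],[]),(0,[]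,[]),(0,[],[]),(0,[],[]),(0,[],[]),(0,[],[]),(0,[],[]),(0,[],[]),(0,[],[]),(0,[],[]),(0,[],[]),(0,[],[]),(0,[],[]),(0,[],[]),(7,[176,87,3,0,16,68,70,1292,1294,1296,1298,1300,1302,1304,1306,1308,1310,1312,1314,1316,1318],[261,501]),(0,[],[]),(0,[],[]),(4,[21,298,300,302,873,718,1322,1324],[261,501,1321]),(0,[],[]),(0,[],[]),(0,[],[]),(0,[],[]),(0,[],[]),(0,[],[]),(6,[176,276,312,314,938,1328,1330,1332,1334,1336,1338],[261,501,1321,1319]),(0,[],[]),(8,[21,19,17,0,16,18,20,22,501,499,890,1342],[261,501,1321,1327,1325,1323,719,717,853,605,133,842,611,304,306,308,605,133,842,611,873,903,1322]),(2,[1242],[]),(3,[70,1292,1294],[971,1039,1037]),(1,[1348],[]),(1,[1351,1296],[]),(1,[1205,1352],[]),(1,[1351,1295],[]),(1,[1355],[]),(1,[1359,1298],[]),(5,[304,306,308,310,134,934,1212,1214,1216,1218,1220,1222],[303,301,937,1233,1231,1229,1227,1225,1223]),(1,[1362],[]),(1,[1365,1224],[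]),(1,[1365,1223],[]),(2,[1256],[]),(2,[],[1321]),(2,[1234],[]),(2,[1212],[1233]),(1,[1377],[]),(1,[1379,1232],[]),(1,[1379,1241],[]),(1,[1215,1382],[]),(1,[1379,1231],[]),(1,[1385],[]),(1,[1389,1239],[]),(2,[1328],[]),(3,[1214,1216,1218],[1386,1229,1227]),(1,[1395],[]),(1,[1397,1367],[]),(1,[1397,1226],[]),(2,[],[1390]),(2,[],[1255]),(2,[1246],[]),(2,[1250],[]),(2,[1264],[]),(5,[1263,1261,1259,1370,478,48,50,52,54,207,200,3,16,68,70,1292,1357,1204,1360],[1411]),(3,[1266],[1413,1361,1033,1031]),(2,[1268],[]),(2,[1274],[]),(2,[1282],[]),(2,[1288],[]),(2,[1300],[]),(2,[1308],[]),(2,[1312],[]),(2,[],[1341]),(2,[1324],[]),(2,[1332],[]),(2,[1336],[]),(0,[],[]),(0,[],[]),(0,[],[]),(0,[],[]),(0,[],[]),(7,[24,195,96,98,1150,1438,1440,1442,1444,1446],[23,21,503,937,935,135,311,309,875,782,784,786,911]),(0,[],[]),(0,[],[]),(0,[],[]),(0,[],[]),(0,[],[]),(0,[],[]),(0,[],[]),(0,[],[]),(0,[],[]),(0,[],[]),(0,[],[]),(0,[],[]),(0,[],[]),(0,[],[]),(0,[],[]),(0,[],[]),(0,[],[]),(0,[],[]),(0,[],[]),(0,[],[]),(8,[501,499,513,98,1150,1018,1450,1452,1454,1456,1458,1460,1462,1464,1466,1468,1470,1472,1474,1476,1478,1480,1482,1484,1486,1488],[23,21,503,300,611,873,903,720,722]),(0,[],[]),(0,[],[]),(5,[24,195,96,98,1150,1018,1020,1492,1494],[23,21,19,259,971,1039,1037,1035,1033,1031,1029]),(0,[],[])]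

theorem ok2 : data.stepsOK st2 500 = true := by decide +kernel

def st3 : List Step := [(0,[],[]),(0,[],[]),(0,[],[]),(0,[],[]),(0,[],[]),(0,[],[]),(0,[],[]),(0,[],[]),(0,[],[]),(0,[],[]),(0,[],[]),(0,[],[]),(0,[],[]),(0,[],[]),(0,[],[]),(0,[],[]),(7,[195,96,512,890,725,1498,1500,1502,1504,1506,1508,1510,1512,1514,1516,1518,1520,1522,1524,1526,1528,1530],[263]),(0,[],[]),(0,[],[]),(4,[25,260,176,276,165,608,1534,1536],[263,1533,1531]),(0,[],[]),(0,[],[]),(0,[],[]),(0,[],[]),(8,[25,501,499,890,725,723,721,902,717,853,310,133,842,301,502,20,22,24,195,192,1544,1546],[263,1533,1531,1539,1537,1535,609,163,161,159,157,155,153]),(0,[],[]),(0,[],[]),(0,[],[]),(0,[],[]),(0,[],[]),(0,[],[]),(0,[],[]),(0,[],[]),(0,[],[]),(0,[],[]),(0,[],[]),(0,[],[]),(5,[195,96,512,890,725,723,1550,1552,1554,1556,1558,1560,1562,1564,1566,1568,1570,1572],[263,1533]),(3,[28,30,32],[1533,1575]),(3,[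1150,1018,1450],[100,102]),(2,[1540],[]),(2,[1550],[]),(2,[1498],[1491]),(1,[1584],[]),(1,[1587,1499],[]),(1,[1587,1500],[]),(2,[1438],[]),(2,[1446],[]),(2,[1452],[]),(2,[1458],[]),(2,[1466],[]),(2,[1470],[]),(2,[1476],[]),(2,[1530],[]),(2,[1536],[]),(2,[1558],[]),(2,[1564],[]),(2,[1572],[]),(0,[],[]),(0,[],[]),(0,[],[]),(0,[],[]),(0,[],[]),(0,[],[]),(0,[],[]),(0,[],[]),(0,[],[]),(0,[],[]),(0,[],[]),(0,[],[]),(0,[],[]),(0,[],[]),(0,[],[]),(0,[],[]),(0,[],[]),(0,[],[]),(0,[],[]),(0,[],[]),(0,[],[]),(0,[],[]),(8,[1533,1575,1577,34,36,1616,1618,1620,1622,1624,1626,1628,1630,1632,1634,1636,1638,1640,1642,1644,1646,1648,1650,1652,1654,1656,1658],[27,25,23,176,167,165,431,429]),(0,[],[]),(0,[],[]),(0,[],[]),(0,[],[]),(0,[],[]),(5,[28,30,32,34,36,1616,1662,1664,1666,1668,1670],[27,25,501,1321,1319,1317,1315,1313,1311]),(0,[],[]),(0,[],[]),(0,[],[]),(0,[],[]),(0,[],[]),(0,[],[])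,(0,[],[]),(0,[],[]),(0,[],[]),(0,[],[]),(0,[],[]),(0,[],[]),(0,[],[]),(0,[],[]),(0,[],[]),(0,[],[]),(0,[],[]),(0,[],[]),(7,[30,32,1576,1614,1674,1676,1678,1680,1682,1684,1686,1688,1690,1692,1694,1696,1698,1700,1702,1704,1706,1708],[1347]),(0,[],[]),(0,[],[]),(0,[],[]),(4,[29,262,195,192,1544,1712,1714,1716],[1347,1711,1709]),(0,[],[]),(0,[],[]),(0,[],[]),(0,[],[]),(0,[],[]),(0,[],[]),(0,[],[]),(0,[],[]),(0,[],[]),(0,[],[]),(0,[],[]),(0,[],[]),(0,[],[]),(0,[],[]),(0,[],[]),(0,[],[]),(0,[],[]),(0,[],[]),(0,[],[]),(0,[],[]),(0,[],[]),(0,[],[]),(0,[],[]),(8,[29,1533,1575,1614,1674,1726,1728,1730,1732,1734,1736,1738,1740,1742,1744,1746,1748,1750,1752,1754,1756,1758,1760,1762,1764],[1347,1711,1709,1719,1717,1715,1713,1546,1548,295]),(0,[],[]),(0,[],[]),(0,[],[]),(0,[],[]),(0,[],[]),(0,[],[]),(0,[],[]),(0,[],[]),(0,[],[]),(0,[],[]),(0,[],[]),(0,[],[]),(5,[30,32,1576,1614,1674,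1726,1768,1770,1772,1774,1776,1778,1780,1782,1784,1786,1788,1790],[1347,1711]),(2,[1720],[]),(3,[1566,1568,1570,1674,1726,1728],[]),(1,[1796],[]),(1,[1799,1730],[]),(1,[1613,1800],[]),(1,[1803],[]),(1,[1805,1732],[]),(1,[1562,1806],[]),(1,[1809],[]),(1,[1811,1734],[]),(1,[1560,1812],[]),(1,[1815],[]),(1,[1817,1736],[]),(1,[1611,1818],[]),(1,[1821],[]),(1,[1823,1738],[]),(1,[1556,1824],[]),(1,[1827],[]),(1,[1829,1740],[]),(1,[1554,1830],[]),(1,[1833],[]),(1,[1835,1742],[]),(1,[1552,1836],[]),(1,[1839],[]),(1,[1841,1744],[]),(1,[1583,1842],[]),(1,[1845],[]),(1,[1847,1746],[]),(1,[720,1848],[]),(1,[1851],[]),(1,[1853,1748],[]),(1,[903,1854],[]),(1,[1857],[]),(1,[1859,1750],[]),(1,[873,1860],[]),(1,[1863],[]),(1,[1865,1752],[]),(1,[305,1866],[]),(1,[1869],[]),(1,[1871,1754],[]),(1,[867,1872],[]),(1,[1875],[]),(1,[1877,1756],[]),(1,[331,1878],[]),(1,[1881],[]),(1,[1883,1758],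[]),(1,[333,1884],[]),(1,[1887],[]),(1,[1889,1760],[]),(1,[335,1890],[]),(1,[1893],[]),(1,[1895,1762],[]),(1,[337,1896],[]),(1,[1899],[]),(1,[1901,1764],[]),(1,[339,1902],[]),(1,[1905],[]),(1,[1907,1766],[]),(2,[1662],[]),(2,[1620],[]),(2,[1670],[]),(0,[],[]),(0,[],[]),(0,[],[]),(0,[],[]),(0,[],[]),(0,[],[]),(0,[],[]),(0,[],[]),(0,[],[]),(0,[],[]),(0,[],[]),(0,[],[]),(0,[],[]),(0,[],[]),(0,[],[]),(0,[],[]),(7,[32,1576,1574,1606,1539,1608,1916,1918,1920,1922,1924,1926,1928,1930,1932,1934,1936,1938,1940,1942,1944,1946],[1795]),(0,[],[]),(0,[],[]),(0,[],[]),(0,[],[]),(4,[31,1242,1244,1246,1950,1952,1954,1956],[1795,1949,1947]),(0,[],[]),(0,[],[]),(0,[],[]),(0,[],[]),(0,[],[]),(0,[],[]),(0,[],[]),(0,[],[]),(0,[],[]),(0,[],[]),(0,[],[]),(0,[],[]),(0,[],[]),(0,[],[]),(0,[],[]),(0,[],[]),(0,[],[]),(0,[],[]),(0,[],[]),(0,[],[])]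

theorem ok3 : data.stepsOK st3 750 = true := by decide +kernel

end

end Mem
end HN
end H39
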